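import Cfsg.Statements.S4702
import Cfsg.Agent.Grp.PSL2Rec
-- import your own Cfsg.Agent.* helpers here

set_option autoImplicit false
open Cfsg

namespace Cfsg.Agent.S4702

open Equiv OnePoint
open scoped MatrixGroups

theorem inv_ap {X : Type*} (g : Perm X) (x : X) : g⁻¹ (g x) = x := g.symm_apply_apply x

theorem ap_inv {X : Type*} (g : Perm X) (x : X) : g (g⁻¹ x) = x := g.apply_symm_apply x

section General

variable {X : Type*} [Fintype X] [DecidableEq X]

/-- sharply triply transitive groups of odd degree -/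
structure Sharp (K : Subgroup (Perm X)) : Prop where
  ex : ∀ {a b c a' b' c' : X}, a ≠ b → a ≠ c → b ≠ c → a' ≠ b' → a' ≠ c' → b' ≠ c' →
    ∃ g ∈ K, g a = a' ∧ g b = b' ∧ g c = c'
  uniq : ∀ {g : Perm X}, g ∈ K → ∀ {a b c : X}, a ≠ b → a ≠ c → b ≠ c → g a = a → g b = b →
    g c = c → g = 1
  odd : Odd (Fintype.card X)

variable {K : Subgroup (Perm X)}

theorem Sharp.eq (h : Sharp K) {g g' : Perm X} (hg : g ∈ K) (hg' : g' ∈ K) {a b c : X}
    (hab : a ≠ b) (hac : a ≠ c) (hbc : b ≠ c) (ha : g a = g' a) (hb : g b = g' b)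
    (hc : g c = g' c) : g = g' := by
  rw [← inv_mul_eq_one]
  refine h.uniq (K.mul_mem (K.inv_mem hg) hg') hab hac hbc ?_ ?_ ?_
  · rw [Perm.mul_apply, ← ha, inv_ap]
  · rw [Perm.mul_apply, ← hb, inv_ap]
  · rw [Perm.mul_apply, ← hc, inv_ap]

theorem Sharp.eq_one_of_sq (h : Sharp K) {g : Perm X} (hg : g ∈ K) (h2 : g * g = 1) {a b : X}
    (hab : a ≠ b) (ha : g a = a) (hb : g b = b) : g = 1 := by
  have h1 : Fintype.card X ≡ Fintype.card (Function.fixedPoints g) [MOD 2] :=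
    Perm.card_fixedPoints_modEq (f := (g : X → X)) (p := 2) (n := 1) (by
      funext x
      exact congrArg (fun e : Perm X => e x) h2)
  by_contra hne
  have h3 : Function.fixedPoints g = {a, b} := by
    ext c
    constructor
    · intro hc
      by_contra hc'
      simp only [Set.mem_insert_iff, Set.mem_singleton_iff, not_or] at hc'
      exact hne (h.uniq hg hab (Ne.symm hc'.1) (Ne.symm hc'.2) ha hb hc)
    · rintro (rfl | rfl)
      · exact ha
      · exact hb
  rw [← Nat.card_eq_fintype_card (α := Function.fixedPoints g), h3, Nat.card_coe_set_eq,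
    Set.ncard_pair hab, Nat.ModEq, Nat.odd_iff.1 h.odd] at h1
  exact absurd h1 (by norm_num)

theorem Sharp.sq_of_fix (h : Sharp K) {g : Perm X} (hg : g ∈ K) {a b c : X} (hab : a ≠ b)
    (hac : a ≠ c) (hbc : b ≠ c) (ha : g a = b) (hb : g b = a) (hc : g c = c) : g * g = 1 :=
  h.uniq (K.mul_mem hg hg) hab hac hbc (by rw [Perm.mul_apply, ha, hb])
    (by rw [Perm.mul_apply, hb, ha]) (by rw [Perm.mul_apply, hc, hc])

theorem Sharp.sq_of_swap (h : Sharp K) {g : Perm X} (hg : g ∈ K) {a b c : X} (hab : a ≠ b)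
    (hac : a ≠ c) (hbc : b ≠ c) (ha : g a = b) (hb : g b = a) : g * g = 1 := by
  have hex : ∀ x : {x : X // a ≠ x ∧ b ≠ x}, ∃ t ∈ K, t a = b ∧ t b = a ∧ t x = x := fun x =>
    h.ex hab x.2.1 x.2.2 hab.symm x.2.2 x.2.1
  choose t ht hta htb htx using hex
  have hr : ∀ u : Perm X, u a = b → u b = a → a ≠ u c ∧ b ≠ u c := fun u h1 h2 =>
    ⟨fun e => hbc (u.injective (h2.trans e)), fun e => hac (u.injective (h1.trans e))⟩
  have hinj : Function.Injective fun x : {x : X // a ≠ x ∧ b ≠ x} =>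
      (⟨t x c, hr _ (hta x) (htb x)⟩ : {x : X // a ≠ x ∧ b ≠ x}) := by
    intro x y hxy
    have h1 : t x = t y := h.eq (ht x) (ht y) hab hac hbc ((hta x).trans (hta y).symm)
      ((htb x).trans (htb y).symm) (congrArg Subtype.val hxy)
    by_contra hne
    have h2 := h.eq_one_of_sq (ht x) (h.sq_of_fix (ht x) hab x.2.1 x.2.2 (hta x) (htb x) (htx x))
      (Subtype.coe_injective.ne hne) (htx x) (h1 ▸ htx y)
    exact hab (by rw [← hta x, h2]; rfl)
  obtain ⟨x, hx⟩ := Finite.injective_iff_surjective.1 hinj ⟨g c, hr g ha hb⟩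
  have h1 : t x = g := h.eq (ht x) hg hab hac hbc ((hta x).trans ha.symm) ((htb x).trans hb.symm)
    (congrArg Subtype.val hx)
  rw [← h1]
  exact h.sq_of_fix (ht x) hab x.2.1 x.2.2 (hta x) (htb x) (htx x)

/-- translations: fixing `i` and nothing else, or trivial -/
def Tr (K : Subgroup (Perm X)) (i : X) (g : Perm X) : Prop :=
  g ∈ K ∧ g i = i ∧ (g = 1 ∨ ∀ y, y ≠ i → g y ≠ y)

theorem Sharp.tr_eq (h : Sharp K) {i z : X} (hiz : i ≠ z) {g g' : Perm X} (hg : Tr K i g)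
    (hg' : Tr K i g') (e : g z = g' z) : g = g' := by
  by_cases hy : g z = z
  · rw [hg.2.2.resolve_right fun h1 => h1 z hiz.symm hy,
      hg'.2.2.resolve_right fun h1 => h1 z hiz.symm (e ▸ hy)]
  have h1 := hg.2.2.resolve_left fun h1 => hy (by rw [h1]; rfl)
  have h1' := hg'.2.2.resolve_left fun h1 => hy (by rw [e, h1]; rfl)
  have hiy : i ≠ g z := fun e' => hiz (g.injective (hg.2.1.trans e'))
  have hex : ∀ x : {x : X // i ≠ x ∧ z ≠ x}, ∃ t ∈ K, t i = i ∧ t z = g z ∧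
      ((x : X) = g z → t = g) ∧ ((x : X) ≠ g z → t x = x) := by
    intro x
    by_cases hx : (x : X) = g z
    · exact ⟨g, hg.1, hg.2.1, rfl, fun _ => rfl, fun h2 => absurd hx h2⟩
    · obtain ⟨t, h2, h3, h4, h5⟩ := h.ex hiz x.2.1 x.2.2 hiy x.2.1 (Ne.symm hx)
      exact ⟨t, h2, h3, h4, fun h6 => absurd h6 hx, fun _ => h5⟩
  choose t ht hti htz ht1 ht2 using hex
  have hr : ∀ u : Perm X, u i = i → u z = g z → i ≠ u⁻¹ z ∧ z ≠ u⁻¹ z := fun u h2 h3 =>
    ⟨fun e' => hiz (by rw [← h2, e', ap_inv]),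
      fun e' => hy (by rw [← h3]; conv_lhs => rw [e', ap_inv])⟩
  have hu : ∀ u u' : Perm X, u ∈ K → u' ∈ K → u i = i → u' i = i → u z = g z → u' z = g z →
      u⁻¹ z = u'⁻¹ z → u = u' := fun u u' h2 h2' h3 h3' h4 h4' h5 =>
    h.eq h2 h2' hiz (hr u h3 h4).1 (hr u h3 h4).2 (h3.trans h3'.symm) (h4.trans h4'.symm)
      (by rw [ap_inv, h5, ap_inv])
  have hinj : Function.Injective fun x : {x : X // i ≠ x ∧ z ≠ x} =>
      (⟨(t x)⁻¹ z, hr _ (hti x) (htz x)⟩ : {x : X // i ≠ x ∧ z ≠ x}) := by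
    intro x y hxy
    have h2 : t x = t y := hu _ _ (ht x) (ht y) (hti x) (hti y) (htz x) (htz y)
      (congrArg Subtype.val hxy)
    by_cases hx : (x : X) = g z <;> by_cases hy' : (y : X) = g z
    · exact Subtype.ext (hx.trans hy'.symm)
    · exact absurd (by rw [← ht1 x hx, h2]; exact ht2 y hy') (h1 y y.2.1.symm)
    · exact absurd (by rw [← ht1 y hy', ← h2]; exact ht2 x hx) (h1 x x.2.1.symm)
    · by_contra hne
      have h3 := h.uniq (ht x) x.2.1 y.2.1 (Subtype.coe_injective.ne hne) (hti x) (ht2 x hx)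
        (h2 ▸ ht2 y hy')
      exact hy (by rw [← htz x, h3]; rfl)
  obtain ⟨x, hx⟩ := Finite.injective_iff_surjective.1 hinj ⟨g'⁻¹ z, hr g' hg'.2.1 e.symm⟩
  have h2 : t x = g' := hu _ _ (ht x) hg'.1 (hti x) hg'.2.1 (htz x) e.symm
    (congrArg Subtype.val hx)
  by_cases hx' : (x : X) = g z
  · rw [← h2, ht1 x hx']
  · exact absurd (h2 ▸ ht2 x hx') (h1' x x.2.1.symm)

theorem Sharp.exists_tr (h : Sharp K) {i z x : X} (hiz : i ≠ z) (hix : i ≠ x) :
    ∃ g, Tr K i g ∧ g z = x ∧ g * g = 1 := by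
  by_cases hx : z = x
  · exact ⟨1, ⟨K.one_mem, rfl, Or.inl rfl⟩, hx, mul_one _⟩
  obtain ⟨g, hg, h1, h2, h3⟩ := h.ex hx hiz.symm hix.symm (Ne.symm hx) hix.symm hiz.symm
  have h4 := h.sq_of_fix hg hx hiz.symm hix.symm h1 h2 h3
  refine ⟨g, ⟨hg, h3, Or.inr fun y hy hgy => hx ?_⟩, h1, h4⟩
  rw [← h1, h.eq_one_of_sq hg h4 hy hgy h3]; rfl

theorem Sharp.tr_sq (h : Sharp K) {i z : X} (hiz : i ≠ z) {g : Perm X} (hg : Tr K i g) :
    g * g = 1 := by
  obtain ⟨k, hk, h1, h2⟩ := h.exists_tr (x := g z) hiz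
    fun e' => hiz (g.injective (hg.2.1.trans e'))
  rwa [h.tr_eq hiz hg hk h1.symm]

theorem Sharp.tr_mul (h : Sharp K) {i z : X} (hiz : i ≠ z) {g k : Perm X} (hg : Tr K i g)
    (hk : Tr K i k) : Tr K i (g * k) := by
  refine ⟨K.mul_mem hg.1 hk.1, by rw [Perm.mul_apply, hk.2.1, hg.2.1], ?_⟩
  by_contra hc
  push Not at hc
  obtain ⟨h1, y, hy, h2⟩ := hc
  have h3 : g y = k y := by
    conv_lhs => rw [← h2, ← Perm.mul_apply, ← mul_assoc, h.tr_sq hiz hg, one_mul]
  rw [h.tr_eq hy.symm hg hk h3, h.tr_sq hiz hk] at h1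
  exact h1 rfl

omit [Fintype X] [DecidableEq X] in
theorem Tr.conj {i : X} {g u : Perm X} (hg : Tr K i g) (hu : u ∈ K) (hui : u i = i) :
    Tr K i (u * g * u⁻¹) := by
  have h1 : u⁻¹ i = i := by rw [Perm.inv_eq_iff_eq, hui]
  refine ⟨K.mul_mem (K.mul_mem hu hg.1) (K.inv_mem hu), by
    rw [Perm.mul_apply, Perm.mul_apply, h1, hg.2.1, hui], ?_⟩
  rcases hg.2.2 with h2 | h2
  · left; rw [h2]; simp
  · right
    intro y hy h3
    refine h2 (u⁻¹ y) (fun e => hy (by rw [← hui, ← e, ap_inv])) ?_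
    rw [Perm.eq_inv_iff_eq]; exact h3

end General

theorem main {Ω : Type} [Fintype Ω] [DecidableEq Ω] {K : Subgroup (Perm (OnePoint Ω))}
    [Fintype (OnePoint Ω)] [DecidableEq (OnePoint Ω)] (h : Sharp K) {z o : Ω} (hzo : z ≠ o) :
    ∃ (_ : Field Ω), ringChar Ω = 2 ∧ K = (mobPerm Ω).range := by
  have hi : ∀ x : Ω, (∞ : OnePoint Ω) ≠ x := fun x => infty_ne_coe x
  have hc : ∀ {x y : Ω}, x ≠ y → (x : OnePoint Ω) ≠ y := fun hxy => coe_injective.ne hxy
  have hap : ∀ (g : Perm (OnePoint Ω)) (y : Ω), ∃ w : Ω, g y ≠ ∞ → g y = w := fun g y => by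
    by_cases h1 : g y = ∞
    · exact ⟨y, fun h2 => absurd h1 h2⟩
    · obtain ⟨w, hw⟩ := ne_infty_iff_exists.1 h1
      exact ⟨w, fun _ => hw.symm⟩
  choose ap hap using hap
  have hap' : ∀ g : Perm (OnePoint Ω), g ∞ = ∞ → ∀ y : Ω, (ap g y : OnePoint Ω) = g y :=
    fun g hg y => (hap g y fun e => hi y (g.injective (hg.trans e.symm))).symm
  choose k hk hkz hk2 using fun x : Ω => h.exists_tr (hi z) (hi x)
  have hh : ∀ x : Ω, ∃ g ∈ K, g ∞ = ∞ ∧ g z = z ∧ (x ≠ z → g o = x) := fun x => by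
    by_cases hx : x = z
    · exact ⟨1, K.one_mem, rfl, rfl, fun h1 => absurd hx h1⟩
    · obtain ⟨g, h1, h2, h3, h4⟩ := h.ex (hi z) (hi o) (hc hzo) (hi z) (hi x) (hc (Ne.symm hx))
      exact ⟨g, h1, h2, h3, fun _ => h4⟩
  choose m hm hmi hmz hmo using hh
  obtain ⟨t, ht, hti, htz, hto⟩ := h.ex (hi z) (hi o) (hc hzo) (hi z).symm (hc hzo) (hi o)
  have ht2 : t * t = 1 := h.sq_of_fix ht (hi z) (hi o) (hc hzo) hti htz hto
  have hinv : ∀ g ∈ K, g ∞ = ∞ → g z = z → t * g = g⁻¹ * t := fun g hg h1 h2 => by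
    have h3 := h.sq_of_swap (K.mul_mem ht hg) (hi z) (hi o) (hc hzo)
      (by rw [Perm.mul_apply, h1, hti]) (by rw [Perm.mul_apply, h2, htz])
    calc t * g = (t * g * (t * g)) * (g⁻¹ * t⁻¹) := by group
      _ = g⁻¹ * t := by rw [h3, one_mul, inv_eq_of_mul_eq_one_right ht2]
  have hcomm : ∀ x y, m x * m y = m y * m x := fun x y => by
    have h1 := hinv _ (K.mul_mem (hm x) (hm y)) (by rw [Perm.mul_apply, hmi, hmi])
      (by rw [Perm.mul_apply, hmz, hmz])
    rw [← mul_assoc, hinv _ (hm x) (hmi x) (hmz x), mul_assoc, hinv _ (hm y) (hmi y) (hmz y),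
      ← mul_assoc, mul_left_inj, ← mul_inv_rev, inv_inj] at h1
    exact h1.symm
  have hmeq : ∀ g ∈ K, g ∞ = ∞ → g z = z → ∀ x : Ω, g o = x → g = m x := fun g hg h1 h2 x h3 =>
    h.eq hg (hm x) (hi z) (hi o) (hc hzo) (h1.trans (hmi x).symm) (h2.trans (hmz x).symm)
      (h3.trans (hmo x fun e => hzo (coe_injective (g.injective (h2.trans (e ▸ h3.symm))))).symm)
  let _ : Add Ω := ⟨fun x y => ap (k x) y⟩
  let _ : Mul Ω := ⟨fun x y => if x = z then z else ap (m x) y⟩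
  let _ : Neg Ω := ⟨id⟩
  let _ : Inv Ω := ⟨fun x => if x = z then z else ap t x⟩
  let _ : Zero Ω := ⟨z⟩
  let _ : One Ω := ⟨o⟩
  have hadd : ∀ x y : Ω, ((x + y : Ω) : OnePoint Ω) = k x y := fun x y => hap' _ (hk x).2.1 y
  have hmul0 : ∀ y : Ω, z * y = z := fun y => if_pos rfl
  have hmul : ∀ x y : Ω, x ≠ z → ((x * y : Ω) : OnePoint Ω) = m x y := fun x y hx => by
    rw [show x * y = ap (m x) y from if_neg hx]
    exact hap' _ (hmi x) y
  have hmulz : ∀ x : Ω, x * z = z := fun x => by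
    by_cases hx : x = z
    · rw [hx, hmul0]
    · exact coe_injective ((hmul x z hx).trans (hmz x))
  have hne : ∀ x y : Ω, x ≠ z → y ≠ z → x * y ≠ z := fun x y hx hy e =>
    hy (coe_injective ((m x).injective ((hmul x y hx).symm.trans
      ((congrArg _ e).trans (hmz x).symm))))
  have hmm : ∀ x y : Ω, x ≠ z → y ≠ z → m x * m y = m (x * y) := fun x y hx hy =>
    hmeq _ (K.mul_mem (hm x) (hm y)) (by rw [Perm.mul_apply, hmi, hmi])
      (by rw [Perm.mul_apply, hmz, hmz]) _ (by rw [Perm.mul_apply, hmo y hy, hmul x y hx])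
  have hkk : ∀ x y : Ω, k x * k y = k (x + y) := fun x y =>
    h.tr_eq (hi z) (h.tr_mul (hi z) (hk x) (hk y)) (hk _)
      (by rw [Perm.mul_apply, hkz, hkz, hadd])
  have hkz1 : k z = 1 := h.tr_eq (hi z) (hk z) ⟨K.one_mem, rfl, Or.inl rfl⟩ (hkz z)
  have hxx : ∀ x : Ω, x + x = z := fun x => coe_injective (by
    rw [hadd, ← hkz x, ← Perm.mul_apply, hk2]; rfl)
  have hinv' : ∀ x : Ω, x ≠ z → ((x⁻¹ : Ω) : OnePoint Ω) = t x := fun x hx => by
    rw [show x⁻¹ = ap t x from if_neg hx]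
    exact (hap t x fun e => hx (coe_injective (t.injective (e.trans htz.symm)))).symm
  let F : Field Ω := Field.ofMinimalAxioms Ω
    (fun a b c => coe_injective (by rw [hadd, ← hkk, hadd, hadd, Perm.mul_apply]))
    (fun a => coe_injective ((hadd z a).trans (by rw [hkz1]; rfl)))
    hxx
    (fun a b c => by
      by_cases ha : a = z
      · rw [ha, hmul0, hmul0, hmul0]
      by_cases hb : b = z
      · rw [hb, hmulz, hmul0, hmulz]
      exact coe_injective (by rw [hmul _ _ (hne a b ha hb), ← hmm a b ha hb, hmul _ _ ha,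
        hmul _ _ hb, Perm.mul_apply]))
    (fun a b => by
      by_cases ha : a = z
      · rw [ha, hmul0, hmulz]
      by_cases hb : b = z
      · rw [hb, hmul0, hmulz]
      exact coe_injective (by rw [hmul _ _ ha, hmul _ _ hb, ← hmo a ha, ← hmo b hb,
        ← Perm.mul_apply, ← Perm.mul_apply, hcomm]))
    (fun a => coe_injective ((hmul o a hzo.symm).trans (by
      rw [← hmeq 1 K.one_mem rfl rfl o rfl]; rfl)))
    (fun a ha => coe_injective (by
      rw [hmul _ _ ha, hinv' a ha, ← hmo a ha, ← Perm.mul_apply t, hinv _ (hm a) (hmi a) (hmz a),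
        Perm.mul_apply, ap_inv]
      exact hto))
    (if_pos rfl)
    (fun a b c => by
      by_cases ha : a = z
      · rw [ha, hmul0, hmul0, hmul0, hxx]
      have h1 : m a * k b * (m a)⁻¹ = k (a * b) :=
        h.tr_eq (hi z) ((hk b).conj (hm a) (hmi a)) (hk _) (by
          rw [Perm.mul_apply, Perm.mul_apply, Perm.inv_eq_iff_eq.2 (hmz a).symm, hkz, hkz,
            hmul _ _ ha])
      exact coe_injective (by rw [hmul _ _ ha, hadd, hadd, ← h1, hmul _ _ ha, Perm.mul_apply,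
        Perm.mul_apply, inv_ap]))
    ⟨z, o, hzo⟩
  have hchar : ringChar Ω = 2 := by
    have : CharP Ω 2 := CharTwo.of_one_ne_zero_of_two_eq_zero one_ne_zero
      (by rw [← one_add_one_eq_two]; exact hxx 1)
    exact ringChar.eq Ω 2
  refine ⟨F, hchar, ?_⟩
  have hT : ∀ a : Ω, mobT a = k a := fun a => by
    ext x
    induction x using OnePoint.rec with
    | infty => rw [mobT_infty, (hk a).2.1]
    | coe x => rw [mobT_coe, add_comm]; exact hadd a x
  have hW : mobW (1 : Ωˣ) = t := by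
    ext x
    induction x using OnePoint.rec with
    | infty => rw [mobW_infty, hti]; rfl
    | coe x =>
      by_cases hx : x = 0
      · rw [hx, mobW_zero]; exact htz.symm
      · rw [mobW_coe _ hx, ← hinv' x hx, Units.val_one, one_pow, neg_div, one_div]; rfl
  have hD : ∀ s : Ωˣ, mobD s = m ((s : Ω) ^ 2) := fun s => by
    ext x
    induction x using OnePoint.rec with
    | infty => rw [mobD_infty, hmi]
    | coe x => rw [mobD_coe]; exact hmul _ x (pow_ne_zero 2 s.ne_zero)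
  have hTK : ∀ a : Ω, mobT a ∈ K := fun a => hT a ▸ (hk a).1
  have hTR : ∀ a : Ω, mobT a ∈ (mobPerm Ω).range := fun a => ⟨_, rfl⟩
  have hWK : mobW (1 : Ωˣ) ∈ K := hW ▸ ht
  have hWR : mobW (1 : Ωˣ) ∈ (mobPerm Ω).range := ⟨_, rfl⟩
  refine le_antisymm (le_of_bruhat hTK hTR hWK hWR (mobW_zero _) fun g hg h1 h2 => ?_)
    (le_of_bruhat hTR hTK hWR hWK (mobW_zero _) fun g hg h1 h2 => ?_)
  · have h3 := (hap' g h1 o).symm
    obtain ⟨s, hs⟩ := FiniteField.isSquare_of_char_two hchar (ap g o)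
    have hs0 : s ≠ 0 := by
      intro hs0
      rw [hs, hs0, mul_zero] at h3
      exact hzo (coe_injective (g.injective (h2.trans h3.symm)))
    rw [hmeq g hg h1 h2 _ h3, hs, ← sq]
    exact hD (Units.mk0 s hs0) ▸ ⟨_, rfl⟩
  · obtain ⟨s, rfl⟩ := exists_mobD_of_range hg h1 h2
    rw [hD]; exact hm _



/-- Let G be a triply transitive permutation group on a finite set of odd size m ≥ 3 in which only the identity fixes three or more points. Then m = 2^a + 1 for some a ≥ 1 and G is isomorphic to SL(2, 2^a). -/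
theorem result {α : Type*} [Fintype α] [DecidableEq α] (hm : 3 ≤ Fintype.card α) (hodd : Odd (Fintype.card α)) (G : Subgroup (Equiv.Perm α)) (h3 : MulAction.IsMultiplyPretransitive G α 3) (hfix : ∀ g : G, 3 ≤ Nat.card (MulAction.fixedBy α g) → g = 1) : ∃ a : ℕ, 1 ≤ a ∧ Fintype.card α = 2 ^ a + 1 ∧ ∃ (F : Type) (_ : Field F) (_ : Fintype F), Fintype.card F = 2 ^ a ∧ Nonempty (G ≃* Matrix.SpecialLinearGroup (Fin 2) F) := by
  classical
  obtain ⟨n, hn⟩ : ∃ n, Fintype.card α = n + 1 := ⟨Fintype.card α - 1, by omega⟩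
  obtain ⟨Ω, hfin, hΩ⟩ : ∃ (Ω : Type) (_ : Fintype Ω), Fintype.card Ω = n := ⟨Fin n, inferInstance, by simp⟩
  let _ : Fintype (OnePoint Ω) := inferInstanceAs (Fintype (Option Ω))
  have hc : Fintype.card (OnePoint Ω) = n + 1 := by
    rw [← hΩ]; exact Fintype.card_option
  let e : α ≃ OnePoint Ω := Fintype.equivOfCardEq (hn.trans hc.symm)
  have hS : Sharp (G.map e.permCongrHom.toMonoidHom) := by
    refine ⟨fun {a b c a' b' c'} hab hac hbc hab' hac' hbc' => ?_, ?_, ?_⟩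
    · have hinj : ∀ {a b c : OnePoint Ω}, a ≠ b → a ≠ c → b ≠ c →
          Function.Injective (![e.symm a, e.symm b, e.symm c] : Fin 3 → α) := by
        intro a b c hab hac hbc i j hij
        fin_cases i <;> fin_cases j <;> simp_all [eq_comm]
      obtain ⟨g, hg⟩ := MulAction.isMultiplyPretransitive_iff.1 h3 ⟨_, hinj hab hac hbc⟩
        ⟨_, hinj hab' hac' hbc'⟩
      have h0 : (g : Perm α) (e.symm a) = e.symm a' := congrArg (fun f : Fin 3 ↪ α => f 0) hg
      have h1 : (g : Perm α) (e.symm b) = e.symm b' := congrArg (fun f : Fin 3 ↪ α => f 1) hg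
      have h2 : (g : Perm α) (e.symm c) = e.symm c' := congrArg (fun f : Fin 3 ↪ α => f 2) hg
      refine ⟨_, Subgroup.mem_map_of_mem _ g.2, ?_, ?_, ?_⟩
      · change e ((g : Perm α) (e.symm a)) = _
        rw [h0, e.apply_symm_apply]
      · change e ((g : Perm α) (e.symm b)) = _
        rw [h1, e.apply_symm_apply]
      · change e ((g : Perm α) (e.symm c)) = _
        rw [h2, e.apply_symm_apply]
    · rintro _ ⟨g, hg, rfl⟩ a b c hab hac hbc ha hb hc
      have h1 := hfix ⟨g, hg⟩ (by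
        rw [Nat.card_coe_set_eq, ← Set.ncard_eq_three.2 ⟨e.symm a, e.symm b, e.symm c,
          e.symm.injective.ne hab, e.symm.injective.ne hac, e.symm.injective.ne hbc, rfl⟩]
        refine Set.ncard_le_ncard ?_
        rintro _ (rfl | rfl | rfl)
        · exact e.eq_symm_apply.2 ha
        · exact e.eq_symm_apply.2 hb
        · exact e.eq_symm_apply.2 hc)
      rw [show g = 1 from congrArg Subtype.val h1, map_one]
    · rwa [hc, ← hn]
  obtain ⟨z, o, hzo⟩ := Fintype.exists_pair_of_one_lt_card (α := Ω) (by omega)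
  obtain ⟨F, hchar, hK⟩ := main hS hzo
  have : CharP Ω 2 := ringChar.of_eq hchar
  obtain ⟨a, -, ha⟩ := FiniteField.card Ω 2
  refine ⟨a, a.pos, by rw [hn, ← hΩ, ha], Ω, F, hfin, ha, ⟨?_⟩⟩
  have hinj : Function.Injective (mobPerm Ω) := by
    rw [← MonoidHom.ker_eq_bot_iff, mobPerm_ker, eq_bot_iff]
    intro A hA
    obtain ⟨r, hr, hA⟩ := Matrix.SpecialLinearGroup.mem_center_iff.1 hA
    rw [Fintype.card_fin, sq, mul_self_eq_one_iff, CharTwo.neg_eq, or_self] at hr
    rw [hr, map_one] at hA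
    exact Subtype.ext hA.symm
  exact ((G.equivMapOfInjective _ e.permCongrHom.injective).trans
    (MulEquiv.subgroupCongr hK)).trans (MonoidHom.ofInjective hinj).symm

end Cfsg.Agent.S4702
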