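import Cfsg.Statements.S4648
import Cfsg.Agent.Mod.Corner

set_option autoImplicit false
open Cfsg

namespace Cfsg.Agent.S4648

/-- Let B be a block of the finite group G relative to a maximal ideal M of the algebraic integers containing the prime p, with a nontrivial defect group D. If B has p-regular rank 1 and at most four irreducible characters, then B is nilpotent, D has exactly as many elements as B has irreducible characters, and p is 2 or 3. -/
theorem result {G : Type*} [Group G] [Finite G] (p : ℕ) [Fact p.Prime] (M : Ideal Cfsg.AlgInt) (hM : Cfsg.IsPModular p M) (B : Set (Cfsg.IrrCharacter G)) (hB : Cfsg.IsPBlock M B) (D : Subgroup G) (hD : Cfsg.IsDefectGroup p M B D) (hD1 : D ≠ ⊥) (hl : Cfsg.blockRank p B = 1) (hk : Nat.card B ≤ 4) : Cfsg.IsNilpotentBlock p M B ∧ Nat.card D = Nat.card B ∧ (p = 2 ∨ p = 3) := by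
  have hp : p.Prime := Fact.out
  obtain ⟨A, _, _, _, L, h1, h2⟩ := hB.exists_symLocal hM hl
  have hc := L.comm_of_finrank_center_le_four (h2.trans hk)
  have h3 : Subalgebra.center (resK M) A = ⊤ :=
    eq_top_iff.2 fun x _ => Subalgebra.mem_center_iff.2 fun y => hc y x
  rw [h3, Subalgebra.topEquiv.toLinearEquiv.finrank_eq, h1] at h2
  obtain ⟨φ, d, -, hd, hχ, -, hs⟩ := (hB.isBlockUnion hM).exists_of_blockRank_eq_one hM hl
  have h4 := eq_one_of_sum_sq_le_card (irrFinset B) (fun χ => d χ ())
    (fun χ hχ => (hd χ (mem_irrFinset.1 hχ)).ne') (by rw [hs, card_irrFinset]; exact_mod_cast h2)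
  have h5 : ∀ χ ∈ B, charDegree χ.1 = charDegree (φ ()) := by
    intro χ hχB
    have h6 : d χ () = 1 := by
      have := h4 χ (mem_irrFinset.2 hχB)
      have := hd χ hχB
      nlinarith
    have h7 := hχ χ hχB
    rw [h6, Int.cast_one, one_smul] at h7
    rw [← h7, charDegree, charDegree, pRegularPart_one hp]
  have h6 := hB.card_eq_pow_of_charDegree_eq hM h5
  have h7 := hD.card_eq hM hB
  refine ⟨hB.isNilpotentBlock_of_charDegree_eq hM h5, h7.trans h6.symm, ?_⟩
  have h8 : blockDefect p B ≠ 0 := fun h => hD1 (by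
    rw [h, pow_zero] at h7; exact Subgroup.card_eq_one.1 h7)
  have h9 : p ≤ 4 := (Nat.le_self_pow h8 p).trans (h6 ▸ hk)
  have h10 := hp.two_le
  interval_cases p
  · exact Or.inl rfl
  · exact Or.inr rfl
  · exact absurd hp (by decide)

end Cfsg.Agent.S4648
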