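import Cfsg.Statements.S4540
import Cfsg.Agent.Blk.SecTwo

set_option autoImplicit false
open Cfsg

namespace Cfsg.Agent.S4540

/-- Let B be a 2-block of the finite group G (relative to a maximal ideal M of the algebraic integers containing 2) of defect d with defect group D. Let z be an element of D commuting with every element of D, and let b be a block of the centralizer C of z with defect group D that induces B (a major subsection (z, b)). If b has 2-regular rank at most three, then 3·k(B) ≤ 3·k₀(B) + 2·Σ 2 ^ h(χ), where k(B) is the number of members of B, k₀(B) the number of members of height zero, and the sum runs over the members χ of B of positive height h(χ); this bound is at most 3·2 ^ d, so in particular B contains at most 2 ^ d irreducible characters. -/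
theorem result {G : Type*} [Group G] [Finite G] (M : Ideal Cfsg.AlgInt) (hM : Cfsg.IsPModular 2 M) (B : Set (Cfsg.IrrCharacter G)) (hB : Cfsg.IsPBlock M B) (D : Subgroup G) (hD : Cfsg.IsDefectGroup 2 M B D) (z : G) (hzD : z ∈ D) (hzc : ∀ d ∈ D, d * z = z * d) (b : Set (Cfsg.IrrCharacter ↥(Subgroup.centralizer ({z} : Set G)))) (hb : Cfsg.IsInducedBlock M (Subgroup.centralizer ({z} : Set G)) b B) (hbD : Cfsg.IsDefectGroup 2 M b (D.subgroupOf (Subgroup.centralizer ({z} : Set G)))) (hl : Cfsg.blockRank 2 b ≤ 3) : 3 * Nat.card B ≤ 3 * Nat.card {χ : Cfsg.IrrCharacter G // χ ∈ B ∧ Cfsg.blockHeight 2 B (χ : G → ℂ) = 0} + 2 * (∑ᶠ χ ∈ {χ : Cfsg.IrrCharacter G | χ ∈ B ∧ 1 ≤ Cfsg.blockHeight 2 B (χ : G → ℂ)}, 2 ^ Cfsg.blockHeight 2 B (χ : G → ℂ)) ∧ 3 * Nat.card {χ : Cfsg.IrrCharacter G // χ ∈ B ∧ Cfsg.blockHeight 2 B (χ : G → ℂ) = 0} + 2 * (∑ᶠ χ ∈ {χ : Cfsg.IrrCharacter G | χ ∈ B ∧ 1 ≤ Cfsg.blockHeight 2 B (χ : G → ℂ)}, 2 ^ Cfsg.blockHeight 2 B (χ : G → ℂ)) ≤ 3 * 2 ^ Cfsg.blockDefect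 2 B := by
  classical
  obtain ⟨hz, hd⟩ := hD.major_subsection hM hzD hzc hb hbD
  obtain ⟨A, hA0, hsum, hA, hA'⟩ := hb.exists_avg_two hM hz rfl
  replace hA' := hA' hd
  rw [natCard_subtype_mem_and, finsum_mem_and, ← card_irrFinset]
  rw [hd] at hsum hA'
  have key : ∀ f : IrrCharacter G → ℤ, ∑ χ ∈ irrFinset B, f χ =
      ∑ χ ∈ (irrFinset B).filter (fun χ => blockHeight 2 B χ.1 = 0), f χ +
      ∑ χ ∈ (irrFinset B).filter (fun χ => 1 ≤ blockHeight 2 B χ.1), f χ := fun f => by
    rw [← Finset.sum_filter_add_sum_filter_not _ (fun χ => blockHeight 2 B χ.1 = 0)]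
    congr 2
    exact Finset.filter_congr fun χ _ => by omega
  have hw : ((3 * ((irrFinset B).filter (fun χ => blockHeight 2 B χ.1 = 0)).card +
      2 * ∑ χ ∈ (irrFinset B).filter (fun χ => 1 ≤ blockHeight 2 B χ.1),
        2 ^ blockHeight 2 B χ.1 : ℕ) : ℤ) = ∑ χ ∈ irrFinset B,
      if blockHeight 2 B χ.1 = 0 then 3 else 2 * 2 ^ blockHeight 2 B χ.1 := by
    rw [key, Finset.sum_congr rfl fun χ hχ => if_pos (Finset.mem_filter.1 hχ).2,
      Finset.sum_congr rfl fun χ hχ => if_neg
        (Nat.one_le_iff_ne_zero.1 (Finset.mem_filter.1 hχ).2), ← Finset.mul_sum]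
    simp [mul_comm]
  have hpow : ∀ h : ℕ, h ≠ 0 → (2 : ℤ) ≤ 2 ^ h := fun h hh => le_self_pow₀ one_le_two hh
  constructor
  · have : (3 : ℤ) * (irrFinset B).card ≤ ∑ χ ∈ irrFinset B,
        if blockHeight 2 B χ.1 = 0 then 3 else 2 * 2 ^ blockHeight 2 B χ.1 := by
      calc (3 : ℤ) * (irrFinset B).card = ∑ _χ ∈ irrFinset B, (3 : ℤ) := by simp [mul_comm]
        _ ≤ _ := Finset.sum_le_sum fun χ _ => by
          split_ifs with h
          · rfl
          · have := hpow _ h; omega
    rw [← hw] at this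
    exact_mod_cast this
  · have : (∑ χ ∈ irrFinset B, if blockHeight 2 B χ.1 = 0 then 3 else
        2 * 2 ^ blockHeight 2 B χ.1 : ℤ) ≤ 3 * 2 ^ blockDefect 2 B := by
      by_cases h1 : ∃ χ ∈ B, blockHeight 2 B χ.1 = 0 ∧ A χ = 1
      · obtain ⟨χ, hχ, h0, h1⟩ := h1
        have h2 := ((hA' χ hχ).1 h0).1
        rw [h1, mul_one] at h2
        refine le_trans ?_ (mul_le_mul_of_nonneg_left h2 (by norm_num))
        rw [Finset.mul_sum]
        refine Finset.sum_le_sum fun ψ _ => ?_
        split_ifs with h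
        · simp [h]
        · rw [two_mul (blockHeight 2 B ψ.1), pow_add]
          have := hpow _ h
          nlinarith
      · push Not at h1
        have hl' : (blockRank 2 b : ℤ) ≤ 3 := by exact_mod_cast hl
        refine le_trans (Finset.sum_le_sum (g := A) fun χ hχ => ?_) ?_
        · have hχ' := mem_irrFinset.1 hχ
          split_ifs with h
          · obtain ⟨x, hx⟩ := (hA χ hχ' h).1
            have := hA0 χ
            have := h1 χ hχ' h
            omega
          · obtain ⟨h2, -, h3⟩ := (hA' χ hχ').2 h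
            rw [← pow_succ']
            exact Int.le_of_dvd h2 h3
        · rw [hsum, mul_comm]
          exact mul_le_mul_of_nonneg_right hl' (by positivity)
    rw [← hw] at this
    exact_mod_cast this

end Cfsg.Agent.S4540
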