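import Cfsg.Statements.S4479
import Cfsg.Agent.Blk.DihCount

set_option autoImplicit false
open Cfsg

namespace Cfsg.Agent.S4479

open scoped ComplexConjugate

section
variable {G : Type*} [Group G] [Finite G]

theorem setup {g₀ : ℕ} (hg₀ : Odd g₀) (hG : Nat.card G = 4 * g₀)
    (hnc : ¬ ∃ N : Subgroup G, N.Normal ∧ Nat.card N = g₀) (P : Sylow 2 G) {J : G}
    (hJ : J ∈ (P : Subgroup G)) (hJ2 : orderOf J = 2) :
    ∃ τ, IsDih (P : Subgroup G) J τ 1 ∧ ∀ s, orderOf s = 2 → IsConj (J ^ 1) s := by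
  have hP : Nat.card (P : Subgroup G) = 4 := by
    rw [Sylow.card_eq_multiplicity, hG, Nat.factorization_mul (by norm_num) hg₀.pos.ne',
      Finsupp.add_apply, Nat.factorization_eq_zero_of_not_dvd hg₀.not_two_dvd_nat,
      show 4 = 2 ^ 2 from rfl, Nat.prime_two.factorization_pow]
    simp
  have hn : ¬ HasNormalPComplement 2 G := fun h => hnc ⟨pPrimeCore 2 G, inferInstance, by
    have := (h.isComplement' P).card_mul_card
    rw [hP, hG] at this
    omega⟩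
  obtain ⟨τ, h⟩ := exists_isDih_of_card_four hP
    (fun hc => hn (hasNormalPComplement_two_of_isCyclic P hc)) hJ hJ2
  have hsq : ∀ x ∈ (P : Subgroup G), x * x = 1 := fun x hx => by
    by_cases hx' : x ∈ Subgroup.zpowers J
    · rw [← sq, ← orderOf_dvd_iff_pow_eq_one, ← hJ2]
      exact orderOf_dvd_of_mem_zpowers hx'
    · exact h.mul_self_of_notMem hx hx'
  have hJ1 : J ≠ 1 := fun e => by rw [e, orderOf_one] at hJ2; omega
  have : Nontrivial (P : Subgroup G) := ⟨⟨⟨J, hJ⟩, 1, fun e => hJ1 (congrArg Subtype.val e)⟩⟩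
  have hV : IsKleinFour (P : Subgroup G) := ⟨hP, (Monoid.exponent_eq_prime_iff Nat.prime_two).2
    fun g hg => orderOf_eq_prime (Subtype.ext (by rw [sq]; exact hsq g g.2)) hg⟩
  obtain ⟨t, ht, ht'⟩ := SetLike.not_le_iff_exists.1
    fun e => hn (hasNormalPComplement_of_normalizer_le_centralizer P e)
  have hf := fun x hx hx1 e => ht' (kleinFour_free hV le_rfl (fun h2 => IsDih.not_dvd_relIndex P
    Subgroup.le_normalizer (h2.trans (Subgroup.relIndex_dvd_of_le_left _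
      (kleinFour_le_centralizer hV)))) t ht x hx hx1 e)
  have hm := fun x => (Subgroup.mem_normalizer_iff.1 ht x).1
  have h1 : t * J * t⁻¹ ≠ 1 := fun e => hJ1 (conj_eq_one_iff.1 e)
  have h2 : J ≠ t * J * t⁻¹ := fun e => hf J hJ hJ1 e.symm
  have h3 : t * (t * J * t⁻¹) * t⁻¹ = J * (t * J * t⁻¹) := by
    refine kleinFour_eq_mul hV hJ (hm _ hJ) (hm _ (hm _ hJ)) hJ1 h1 h2
      (fun e => h1 (conj_eq_one_iff.1 e)) (fun e => ?_) (hf _ (hm _ hJ) h1)
    refine hf (J * (t * J * t⁻¹)) (Subgroup.mul_mem _ hJ (hm _ hJ)) (fun e' => h2 ?_) ?_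
    · exact mul_left_cancel ((hsq J hJ).trans e'.symm)
    · rw [← conj_mul, e]
      exact Subgroup.mem_centralizer_iff.1 (kleinFour_le_centralizer hV hJ) _ (hm _ hJ)
  have key : ∀ y ∈ (P : Subgroup G), y ≠ 1 → IsConj (J ^ 1) y := fun y hy hy1 => by
    rw [pow_one]
    by_cases a : y = J
    · rw [a]
    by_cases b : y = t * J * t⁻¹
    · exact isConj_iff.2 ⟨t, b.symm⟩
    · rw [kleinFour_eq_mul hV hJ (hm _ hJ) hy hJ1 h1 h2 hy1 a b, ← h3]
      exact (isConj_iff.2 ⟨t, rfl⟩).trans (isConj_iff.2 ⟨t, rfl⟩)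
  refine ⟨τ, h, h.isConj_J (key _ h.mem_τ fun e => h.notMem (e ▸ Subgroup.one_mem _))
    (key _ (Subgroup.mul_mem _ hJ h.mem_τ) fun e =>
      h.mul_τ_notMem (Subgroup.mem_zpowers J) (e ▸ Subgroup.one_mem _))⟩

theorem sum_eq {B : Set (IrrCharacter G)} {χ₁ χ₂ χ₃ : IrrCharacter G}
    (hB : B = {χ : Cfsg.IrrCharacter G | (χ : G → ℂ) = (fun _ => 1) ∨ χ = χ₁ ∨ χ = χ₂ ∨ χ = χ₃})
    (hdist : (χ₁ : G → ℂ) ≠ (fun _ => 1) ∧ (χ₂ : G → ℂ) ≠ (fun _ => 1) ∧
      (χ₃ : G → ℂ) ≠ (fun _ => 1) ∧ χ₁ ≠ χ₂ ∧ χ₁ ≠ χ₃ ∧ χ₂ ≠ χ₃) (f : IrrCharacter G → ℂ) :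
    ∑ χ ∈ irrFinset B, f χ = f (IrrCharacter.triv G) + f χ₁ + f χ₂ + f χ₃ := by
  classical
  have ht : ∀ χ : IrrCharacter G, (χ : G → ℂ) = (fun _ => 1) ↔ χ = IrrCharacter.triv G :=
    fun χ => ⟨fun h => Subtype.ext h, fun h => h ▸ rfl⟩
  simp only [ne_eq, ht] at hdist
  obtain ⟨a, b, c, d, e, g⟩ := hdist
  rw [show irrFinset B = {IrrCharacter.triv G, χ₁, χ₂, χ₃} from
      Finset.ext fun χ => by simp [hB, ht],
    Finset.sum_insert (by simp [Ne.symm a, Ne.symm b, Ne.symm c]),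
    Finset.sum_insert (by simp [d, e]), Finset.sum_pair g]
  ring

end

/-- An order formula from the principal 2-block. Let G be a finite group of order 4·g₀ with g₀ odd having no normal 2-complement (no normal subgroup of order g₀); let P be a Sylow 2-subgroup, J an involution of P, and fix a maximal ideal M of the algebraic integers containing 2. Suppose the principal 2-block consists of the principal character and three further distinct characters χ₁, χ₂, χ₃ of degrees x₁, x₂, x₃, with χ_i(J) = ε_i = ±1. Then, writing c(J) and c(P) for the orders of the centralizers of J and of P, the order of G equals 8·α·c(J)³/c(P)² with α = x₁x₂x₃ / ((x₁ + ε₁)(x₂ + ε₂)(x₃ + ε₃)). -/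
theorem result {G : Type*} [Group G] [Finite G] (M : Ideal Cfsg.AlgInt) (hM : Cfsg.IsPModular 2 M) (g₀ : ℕ) (hg₀ : Odd g₀) (hG : Nat.card G = 4 * g₀) (hnc : ¬ ∃ N : Subgroup G, N.Normal ∧ Nat.card N = g₀) (P : Sylow 2 G) (J : G) (hJ : J ∈ (P : Subgroup G)) (hJ2 : orderOf J = 2) (χ₁ χ₂ χ₃ : Cfsg.IrrCharacter G) (ε₁ ε₂ ε₃ : ℤ) (hB : Cfsg.principalBlock M G = {χ : Cfsg.IrrCharacter G | (χ : G → ℂ) = (fun _ => 1) ∨ χ = χ₁ ∨ χ = χ₂ ∨ χ = χ₃}) (hdist : (χ₁ : G → ℂ) ≠ (fun _ => 1) ∧ (χ₂ : G → ℂ) ≠ (fun _ => 1) ∧ (χ₃ : G → ℂ) ≠ (fun _ => 1) ∧ χ₁ ≠ χ₂ ∧ χ₁ ≠ χ₃ ∧ χ₂ ≠ χ₃) (hε : (ε₁ = 1 ∨ ε₁ = -1) ∧ (ε₂ = 1 ∨ ε₂ = -1) ∧ (ε₃ = 1 ∨ ε₃ = -1)) (hval : (χ₁ : G → ℂ) J = ε₁ ∧ (χ₂ : G → ℂ) J = ε₂ ∧ (χ₃ : G → ℂ) J = ε₃) : (Nat.card G : ℚ) = 8 * (((Cfsg.charDegree (χ₁ : G → ℂ) : ℚ) * Cfsg.charDegree (χ₂ : G → ℂ) * Cfsg.charDegree (χ₃ : G → ℂ)) / ((Cfsg.charDegree (χ₁ : G → ℂ) + ε₁) * (Cfsg.charDegree (χ₂ : G → ℂ)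 + ε₂) * (Cfsg.charDegree (χ₃ : G → ℂ) + ε₃))) * (Nat.card (Subgroup.centralizer ({J} : Set G)) : ℚ) ^ 3 / (Nat.card (Subgroup.centralizer ((P : Subgroup G) : Set G)) : ℚ) ^ 2 := by
  classical
  have := Fintype.ofFinite G
  obtain ⟨τ, h, hinv⟩ := setup hg₀ hG hnc P hJ hJ2
  obtain ⟨v1, v2, v3⟩ := hval
  have hJ1 : J ≠ 1 := fun e => by rw [e, orderOf_one] at hJ2; omega
  have hmem : χ₁ ∈ principalBlock M G ∧ χ₂ ∈ principalBlock M G ∧ χ₃ ∈ principalBlock M G := by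
    simp [hB]
  set Θ : G → ℂ := fun g => 1 + ε₁ * χ₁.1 g + ε₂ * χ₂.1 g + ε₃ * χ₃.1 g with hΘ
  have h0 : ∀ g, ¬ 2 ∣ orderOf g → Θ g = 0 := fun g hg => by
    have := isPBlock_principalBlock.sum_mul_conj_eq_zero hM
      (not_isConj_pPart_of_regular_singular hg hJ2.symm.dvd)
    rw [sum_eq hB hdist, v1, v2, v3] at this
    simp only [IrrCharacter.triv_apply, map_one, map_intCast] at this
    linear_combination this
  have e1 : (ε₁ : ℂ) ^ 2 = 1 := by rcases hε.1 with rfl | rfl <;> norm_num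
  have e2 : (ε₂ : ℂ) ^ 2 = 1 := by rcases hε.2.1 with rfl | rfl <;> norm_num
  have e3 : (ε₃ : ℂ) ^ 2 = 1 := by rcases hε.2.2 with rfl | rfl <;> norm_num
  have hJ4 : Θ J = 4 := by
    simp only [hΘ, v1, v2, v3]
    linear_combination e1 + e2 + e3
  set C := Subgroup.centralizer ({J} : Set G) with hC
  have key := h.sum_sum_isConj hinv (C := C) (by rw [pow_one]) (Θ := Θ)
    (fun a b => by
      simp only [hΘ, χ₁.isClassFunction a b, χ₂.isClassFunction a b, χ₃.isClassFunction a b])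
    (fun g hg => by simp only [hΘ, ← h.apply_pPart hM hmem.1 hg, ← h.apply_pPart hM hmem.2.1 hg,
      ← h.apply_pPart hM hmem.2.2 hg]) h0
  have hs : ∀ f : Subgroup.zpowers J → ℂ, ∑ s, f s = f 1 + f ⟨J, Subgroup.mem_zpowers J⟩ :=
    fun f => Fintype.sum_eq_add _ _ (fun e => hJ1 (congrArg Subtype.val e).symm) fun x hx => by
      refine absurd (Subtype.ext ((h.eq_J x.2 (orderOf_eq_prime ?_ fun e => hx.1
        (Subtype.ext e))).trans (pow_one J))) hx.2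
      rw [← orderOf_dvd_iff_pow_eq_one, ← hJ2]
      exact orderOf_dvd_of_mem_zpowers x.2
  have hc : ∀ x ∈ (P : Subgroup G), x ∉ Subgroup.zpowers J →
      C ⊓ Subgroup.centralizer {x} = Subgroup.centralizer ((P : Subgroup G) : Set G) := by
    intro x hx hx'
    refine le_antisymm (fun c hc => Subgroup.mem_centralizer_iff.2 fun y hy => ?_) (le_inf
      (Subgroup.centralizer_le (Set.singleton_subset_iff.2 hJ))
      (Subgroup.centralizer_le (Set.singleton_subset_iff.2 hx)))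
    have h1 : Subgroup.zpowers J ≤ Subgroup.centralizer {c} := Subgroup.zpowers_le.2
      (Subgroup.mem_centralizer_singleton_iff.2 (Subgroup.mem_centralizer_singleton_iff.1 hc.1).symm)
    have h2 : x ∈ Subgroup.centralizer {c} :=
      Subgroup.mem_centralizer_singleton_iff.2 (Subgroup.mem_centralizer_singleton_iff.1 hc.2).symm
    refine Subgroup.mem_centralizer_singleton_iff.1 (by_contra fun hy' => hy' ?_)
    exact (Subgroup.mul_mem_cancel_right _ h2).1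
      (h1 (mul_mem_of_relIndex_le_two h.relIndex.le hy hx (fun e => hy' (h1 e)) hx'))
  have hτ' := h.mul_τ_notMem (Subgroup.mem_zpowers J)
  simp only [hs, Subgroup.coe_one, one_mul, inv_one, mul_one, pow_one,
    inv_eq_of_mul_eq_one_right (mul_self_eq_one_of_orderOf_two hJ2), hJ4, h0 1 (by simp),
    mul_self_eq_one_of_orderOf_two hJ2,
    h.invW_eq C h.mem_τ h.notMem, h.invW_eq C (Subgroup.mul_mem _ hJ h.mem_τ) hτ',
    hc _ h.mem_τ h.notMem, hc _ (Subgroup.mul_mem _ hJ h.mem_τ) hτ'] at key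
  have t0 := (IrrCharacter.triv G).sum_sum_isConj J
  simp only [IrrCharacter.triv_apply, IrrCharacter.charDegree_triv] at t0
  simp only [hΘ, Finset.sum_add_distrib, ← Finset.mul_sum] at key
  rw [t0, χ₁.sum_sum_isConj, χ₂.sum_sum_isConj, χ₃.sum_sum_isConj, ← hC, v1, v2, v3, e1, e2,
    e3] at key
  have t1 := h0 1 (by simp)
  simp only [hΘ, IrrCharacter.one_eq_charDegree] at t1
  have x1 : (charDegree χ₁.1 : ℂ) ≠ 0 := Nat.cast_ne_zero.2 χ₁.charDegree_pos.ne'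
  have x2 : (charDegree χ₂.1 : ℂ) ≠ 0 := Nat.cast_ne_zero.2 χ₂.charDegree_pos.ne'
  have x3 : (charDegree χ₃.1 : ℂ) ≠ 0 := Nat.cast_ne_zero.2 χ₃.charDegree_pos.ne'
  have i0 : (C.index : ℂ) ≠ 0 := Nat.cast_ne_zero.2 Subgroup.index_ne_zero_of_finite
  have c0 : (Nat.card C : ℂ) ≠ 0 := Nat.cast_ne_zero.2 Nat.card_pos.ne'
  have c1 : (Nat.card (Subgroup.centralizer ((P : Subgroup G) : Set G)) : ℂ) ≠ 0 :=
    Nat.cast_ne_zero.2 Nat.card_pos.ne'
  rw [← C.card_mul_index]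
  apply Rat.cast_injective (α := ℂ)
  push_cast at key ⊢
  generalize (charDegree χ₁.1 : ℂ) = x, (charDegree χ₂.1 : ℂ) = y, (charDegree χ₃.1 : ℂ) = z,
    (C.index : ℂ) = I, (Nat.card C : ℂ) = c, (ε₁ : ℂ) = α, (ε₂ : ℂ) = β, (ε₃ : ℂ) = γ,
    (Nat.card (Subgroup.centralizer ((P : Subgroup G) : Set G)) : ℂ) = d at *
  have k2 : I * d ^ 2 * ((x + α) * (y + β) * (z + γ)) = 8 * (x * y * z) * c ^ 2 := by
    field_simp at key
    linear_combination key + I * d ^ 2 * (α * β * γ * t1 - β * γ * x * e1 - α * γ * y * e2 -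
      α * β * z * e3)
  have k3 : (x + α) * (y + β) * (z + γ) ≠ 0 := fun e => by
    rw [e, mul_zero] at k2
    exact absurd k2.symm (by simp [x1, x2, x3, c0])
  rw [eq_div_iff (pow_ne_zero 2 c1), ← mul_div_assoc, div_mul_eq_mul_div, eq_div_iff k3]
  linear_combination c * k2

end Cfsg.Agent.S4479
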