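import Cfsg.Statements.S4571
import Cfsg.Agent.Blk.RankQuot

set_option autoImplicit false
open Cfsg

namespace Cfsg.Agent.S4571

/-- Let Q be a normal p-subgroup of the finite group G with G = Q·C_G(Q), and M a maximal ideal of the algebraic integers containing p. Then the principal p-blocks of G and of G/Q have the same p-regular rank (the same number of irreducible Brauer characters). -/
theorem result {G : Type*} [Group G] [Finite G] (p : ℕ) [Fact p.Prime] (M : Ideal Cfsg.AlgInt) (hM : Cfsg.IsPModular p M) (Q : Subgroup G) [Q.Normal] (hQ : IsPGroup p Q) (hsup : Q ⊔ Subgroup.centralizer (Q : Set G) = ⊤) : Cfsg.blockRank p (Cfsg.principalBlock M G) = Cfsg.blockRank p (Cfsg.principalBlock M (G ⧸ Q)) := by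
  have hreg : ∀ g : G, ¬ p ∣ orderOf g →
      g ∈ Subgroup.centralizer ((QuotientGroup.mk' Q).ker : Set G) := by
    intro g hg
    rw [QuotientGroup.ker_mk']
    refine mem_of_coprime_orderOf_index ?_
    have h1 : (Subgroup.centralizer (Q : Set G)).index ∣ Nat.card Q := by
      rw [← Subgroup.relIndex_top_right, ← hsup, Subgroup.relIndex_sup_right]
      exact Subgroup.relIndex_dvd_card _ _
    obtain ⟨n, hn⟩ := IsPGroup.iff_card.1 hQ
    rw [hn] at h1
    exact Nat.Coprime.coprime_dvd_right h1
      (((Nat.Prime.coprime_iff_not_dvd Fact.out).2 hg).symm.pow_right _)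
  rw [← (isPBlock_principalBlock.isBlockUnion hM).blockRank_preimage_inflate_of_isPGroup hM hQ]
  congr 1
  ext χ
  exact hM.comap_mem_principalBlock_iff_of_regular _ (QuotientGroup.mk'_surjective Q)
    (by rwa [QuotientGroup.ker_mk']) hreg χ

end Cfsg.Agent.S4571
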