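import Cfsg.Statements.S4593
import Cfsg.Agent.Blk.ZStar


set_option autoImplicit false
open Cfsg

namespace Cfsg.Agent.S4593


/-- Let G be a finite group with trivial centre and no nontrivial normal subgroup of odd order, whose Sylow 2-subgroups are abelian, and let P be a Sylow 2-subgroup. Every automorphism of G of 2-power order that fixes P elementwise is inner. -/
theorem result {G : Type*} [Group G] [Finite G] (hZ : Subgroup.center G = ⊥) (hcore : Cfsg.pPrimeCore 2 G = ⊥) (P : Sylow 2 G) (hab : IsMulCommutative (P : Subgroup G))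
    (α : MulAut G) (h2 : ∃ j : ℕ, orderOf α = 2 ^ j) (hfix : ∀ x ∈ (P : Subgroup G), α x = x) :
    ∃ g : G, ∀ x : G, α x = g * x * g⁻¹ := by
  haveI := Fact.mk Nat.prime_two
  haveI : Finite (MulAut G) := Finite.of_injective _ (DFunLike.coe_injective (F := MulAut G))
  set I : Subgroup (MulAut G) := (MulAut.conj : G →* MulAut G).range with hI
  have hconj : ∀ (β : MulAut G) (g : G), β * MulAut.conj g * β⁻¹ = MulAut.conj (β g) :=
    fun β g => by ext x; simp
  haveI hIn : I.Normal := ⟨by
    rintro _ ⟨g, rfl⟩ β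
    exact ⟨β g, (hconj β g).symm⟩⟩
  have hinj : Function.Injective (MulAut.conj : G →* MulAut G) := by
    rw [injective_iff_map_eq_one]
    intro g hg
    rw [← Subgroup.mem_bot, ← hZ, Subgroup.mem_center_iff]
    intro x
    have := congrArg (fun β : MulAut G => β x) hg
    simp only [MulAut.conj_apply, MulAut.one_apply] at this
    exact (mul_inv_eq_iff_eq_mul.1 this).symm
  set Γ := I ⊔ Subgroup.zpowers α with hΓ
  have hα : IsPGroup 2 (Subgroup.zpowers α) := isPGroup_zpowers_iff.2 h2
  set P' := (P : Subgroup G).map (MulAut.conj : G →* MulAut G) with hP'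
  have hαP : α ∈ Subgroup.centralizer (P' : Set (MulAut G)) := by
    rintro _ ⟨g, hg, rfl⟩
    rw [eq_comm, ← mul_inv_eq_iff_eq_mul, hconj, hfix g hg]
  set S := P' ⊔ Subgroup.zpowers α with hS
  have hSΓ : S ≤ Γ := sup_le_sup_right (Subgroup.map_le_range _ _) _
  have hSp : IsPGroup 2 S := IsPGroup.to_sup_of_normal_left' (P.isPGroup'.map _) hα
    (Subgroup.zpowers_le.2 (Subgroup.centralizer_le_normalizer _ hαP))
  have hSc : IsMulCommutative S := by
    have h1 : S ≤ Subgroup.centralizer (S : Set (MulAut G)) := by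
      rw [hS, centralizer_sup]
      refine sup_le (le_inf (Subgroup.le_centralizer P') ?_)
        (le_inf (Subgroup.zpowers_le.2 hαP) (Subgroup.le_centralizer _))
      rw [Subgroup.le_centralizer_iff]
      exact Subgroup.zpowers_le.2 hαP
    exact ⟨⟨fun x y => Subtype.ext (h1 y.2 x x.2)⟩⟩
  have hSi : ¬ 2 ∣ S.relIndex Γ := by
    have h1 : Γ = I ⊔ S := by
      rw [hS, ← sup_assoc, sup_eq_left.2 (Subgroup.map_le_range _ _)]
    rw [h1, relIndex_sup_left_of_le_normalizer (by rw [Subgroup.normalizer_eq_top]; exact le_top)]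
    refine fun h => P.not_dvd_index ?_
    have h2 := h.trans (Subgroup.relIndex_dvd_of_le_left I (le_sup_left : P' ≤ S))
    rwa [hP', hI, MonoidHom.range_eq_map, Subgroup.relIndex_map_map_of_injective _ _ hinj,
      Subgroup.relIndex_top_right] at h2
  obtain ⟨T, hT⟩ := exists_sylow_eq_of_not_dvd_index (isPGroup_subgroupOf hSp Γ) hSi
  have hIΓ : I ≤ Γ := le_sup_left
  have hcomm : commutator Γ ≤ I.subgroupOf Γ := by
    rw [commutator_def, Subgroup.commutator_le]
    rintro ⟨x, hx⟩ - ⟨y, hy⟩ -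
    obtain ⟨a, ha, _, ⟨i, rfl⟩, rfl⟩ := mem_sup_normal_left.1 hx
    obtain ⟨b, hb, _, ⟨j, rfl⟩, rfl⟩ := mem_sup_normal_left.1 hy
    rw [Subgroup.mem_subgroupOf, ← QuotientGroup.eq_one_iff]
    simp only [commutatorElement_def, Subgroup.coe_mul, Subgroup.coe_inv, QuotientGroup.mk_mul,
      QuotientGroup.mk_inv, (QuotientGroup.eq_one_iff a).2 ha, (QuotientGroup.eq_one_iff b).2 hb,
      one_mul, QuotientGroup.mk_zpow]
    group
  have key := sylow_le_commutator_of_comm T (by
    rw [hT]
    exact ⟨⟨fun x y => Subtype.ext (Subtype.ext (comm_of_isMulCommutative hSc x.2 y.2))⟩⟩) ?_ ?_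
  · obtain ⟨g, hg⟩ := hcomm (key (hT ▸ show (⟨α, Subgroup.mem_sup_right
      (Subgroup.mem_zpowers α)⟩ : Γ) ∈ S.subgroupOf Γ from
        Subgroup.mem_sup_right (Subgroup.mem_zpowers α)))
    exact ⟨g, fun x => by rw [← MulAut.conj_apply, hg]; rfl⟩
  · set O := (pPrimeCore 2 Γ).map Γ.subtype with hO
    have hOc : (Nat.card O).Coprime 2 := by
      rw [hO, card_map_subtype]; exact coprime_card_pPrimeCore 2
    have hOI : pPrimeCore 2 Γ ≤ I.subgroupOf Γ := by
      refine le_of_coprime_card_index ?_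
      rw [← Subgroup.relIndex, hΓ, relIndex_sup_of_le_normalizer
        (by rw [Subgroup.normalizer_eq_top]; exact le_top)]
      obtain ⟨k, hk⟩ := hα.exists_card_eq
      refine Nat.Coprime.coprime_dvd_right (Subgroup.relIndex_dvd_card _ _) ?_
      rw [hk]
      exact (coprime_card_pPrimeCore 2).pow_right _
    have h1 : O.comap (MulAut.conj : G →* MulAut G) ≤ pPrimeCore 2 G := by
      refine le_pPrimeCore ⟨fun x hx g => ?_⟩
        (hOc.coprime_dvd_left (Subgroup.card_comap_dvd_of_injective _ _ hinj))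
      obtain ⟨y, hy, hyx⟩ := hx
      refine ⟨_, Subgroup.Normal.conj_mem inferInstance y hy ⟨MulAut.conj g, hIΓ ⟨g, rfl⟩⟩, ?_⟩
      rw [map_mul, map_mul, map_inv, hyx, map_mul, map_mul, map_inv]
      rfl
    rw [eq_bot_iff]
    intro y hy
    obtain ⟨g, hg⟩ := hOI hy
    have h3 : g ∈ pPrimeCore 2 G := h1 ⟨y, hy, hg.symm⟩
    rw [hcore, Subgroup.mem_bot] at h3
    rw [h3, map_one] at hg
    exact Subtype.ext hg.symm
  · intro t ht _
    ext x
    have := congrArg Subtype.val (Subgroup.mem_center_iff.1 ht ⟨MulAut.conj x, hIΓ ⟨x, rfl⟩⟩)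
    simp only [Subgroup.coe_mul] at this
    rw [eq_comm, ← mul_inv_eq_iff_eq_mul, hconj] at this
    exact hinj this

end Cfsg.Agent.S4593
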