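import Cfsg.Statements.S4486
import Cfsg.Agent.CT.BrauerLeonard

set_option autoImplicit false
open Cfsg

namespace Cfsg.Agent.S4486

open scoped ComplexConjugate

universe u

theorem arith {x q e M : ℕ} (h1 : x ^ 2 + 1 < q) (h2 : e ≤ x) (h3 : e ≤ M) (h4 : 0 < e)
    (h5 : (q - e) * (M - 1) + 1 ≤ x ^ 2) : e = 1 ∧ M = 1 := by
  have hx : e ≤ x ^ 2 := h2.trans (Nat.le_self_pow two_ne_zero x)
  have hee : e * e ≤ x ^ 2 := by rw [sq]; exact Nat.mul_le_mul h2 h2
  obtain ⟨r, rfl⟩ : ∃ r, q = r + e := ⟨q - e, by omega⟩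
  obtain ⟨M', rfl⟩ : ∃ M', M = M' + 1 := ⟨M - 1, by omega⟩
  rw [Nat.add_sub_cancel, Nat.add_sub_cancel] at h5
  have he : e = 1 := by
    by_contra hne
    rcases Nat.lt_or_ge e 3 with h | h
    · have : e = 2 := by omega
      subst this
      have : r * 1 ≤ r * M' := Nat.mul_le_mul_left _ (by omega)
      omega
    · have : r * 2 ≤ r * M' := Nat.mul_le_mul_left _ (by omega)
      nlinarith
  subst he
  refine ⟨rfl, ?_⟩
  by_contra hne
  have : r * 1 ≤ r * M' := Nat.mul_le_mul_left _ (by omega)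
  omega

section
variable {G : Type u} [Group G] [Finite G] {p : ℕ} [Fact p.Prime] (P : Sylow p G)

theorem mem_sylow_of_mem_centralizer {u : G}
    (hu : u ∈ Subgroup.centralizer ((P : Subgroup G) : Set G)) (hp : ∃ k, orderOf u = p ^ k) :
    u ∈ (P : Subgroup G) := by
  have h1 : IsPGroup p ((P : Subgroup G) ⊔ Subgroup.zpowers u : Subgroup G) :=
    P.isPGroup'.to_sup_of_normal_left' (isPGroup_zpowers_iff.2 hp)
      ((Subgroup.zpowers_le.2 hu).trans (Subgroup.centralizer_le_normalizer _))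
  rw [← P.is_maximal' h1 le_sup_left]
  exact Subgroup.mem_sup_right (Subgroup.mem_zpowers u)

variable (hstar : ∀ x ∈ (P : Subgroup G), x ≠ 1 → Subgroup.centralizer ({x} : Set G) =
  Subgroup.centralizer ((P : Subgroup G) : Set G))
include hstar

omit [Finite G] [Fact p.Prime] in
theorem le_centralizer : (P : Subgroup G) ≤ Subgroup.centralizer ((P : Subgroup G) : Set G) := by
  intro x hx
  by_cases h : x = 1
  · rw [h]; exact Subgroup.one_mem _
  · rw [← hstar x hx h]
    exact Subgroup.mem_centralizer_singleton_iff.2 rfl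

theorem ti (x : G) (hx : x ∉ Subgroup.normalizer ((P : Subgroup G) : Set G)) (a : G)
    (ha : a ∈ {g | g ∈ Subgroup.centralizer ((P : Subgroup G) : Set G) ∧ p ∣ orderOf g}) :
    x * a * x⁻¹ ∉ {g | g ∈ Subgroup.centralizer ((P : Subgroup G) : Set G) ∧ p ∣ orderOf g} := by
  intro hb
  apply hx
  have h1 := mem_sylow_of_mem_centralizer P (pPart_mem p ha.1) (exists_orderOf_pPart a)
  have h2 := mem_sylow_of_mem_centralizer P (pPart_mem p hb.1) (exists_orderOf_pPart _)
  have h3 := hstar _ h1 (pPart_ne_one_iff.2 ha.2)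
  have h4 := hstar _ h2 (pPart_ne_one_iff.2 hb.2)
  rw [pPart_conj, centralizer_conj_singleton, h3] at h4
  refine Subgroup.mem_normalizer_fintype fun u hu => ?_
  refine mem_sylow_of_mem_centralizer P ?_ ?_
  · rw [← h4, conj_mem_conj_smul_iff]
    exact le_centralizer P hstar hu
  · obtain ⟨k, hk⟩ := exists_orderOf_eq_pow_of_mem P.isPGroup' hu
    exact ⟨k, by rw [← hk]; exact (SemiconjBy.orderOf_eq x (by simp [SemiconjBy])).symm⟩

end

/-- Let G be a finite group and p a prime dividing its order such that every non-identity element of a Sylow p-subgroup P has the same centralizer as P; let p^n be the order of P. If G has a non-principal irreducible character χ of degree x with x² < p^n − 1, then either G has a proper normal subgroup containing P, or G has a normal subgroup of index p^n and x = 1. -/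
theorem result {G : Type*} [Group G] [Finite G] (p : ℕ) (hp : p.Prime) (hpG : p ∣ Nat.card G) (P : Sylow p G) (hstar : ∀ x ∈ (P : Subgroup G), x ≠ 1 → Subgroup.centralizer ({x} : Set G) = Subgroup.centralizer ((P : Subgroup G) : Set G)) (n : ℕ) (hn : Nat.card P = p ^ n) (χ : Cfsg.IrrCharacter G) (h1 : (χ : G → ℂ) ≠ fun _ => 1) (hdeg : Cfsg.charDegree (χ : G → ℂ) ^ 2 + 1 < p ^ n) : (∃ K : Subgroup G, K.Normal ∧ K ≠ ⊤ ∧ (P : Subgroup G) ≤ K) ∨ ((∃ N : Subgroup G, N.Normal ∧ N.index = p ^ n) ∧ Cfsg.charDegree (χ : G → ℂ) = 1) := by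
  classical
  have := Fact.mk hp
  have := Fintype.ofFinite G
  rw [← hn] at hdeg ⊢
  by_cases hK : ∃ K : Subgroup G, K.Normal ∧ K ≠ ⊤ ∧ (P : Subgroup G) ≤ K
  · exact Or.inl hK
  right
  push Not at hK
  have hker : ∀ ψ : IrrCharacter G, ψ ≠ IrrCharacter.triv G → ¬ (P : Subgroup G) ≤ charKer ψ.1 :=
    fun ψ hψ => hK _ inferInstance fun h => hψ (ψ.charKer_eq_top_iff.1 h)
  set H := Subgroup.normalizer ((P : Subgroup G) : Set G) with hH
  set C := Subgroup.centralizer ((P : Subgroup G) : Set G) with hC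
  have hPC : (P : Subgroup G) ≤ C := le_centralizer P hstar
  have hPH : (P : Subgroup G) ≤ H := Subgroup.le_normalizer
  have hCH : C ≤ H := Subgroup.centralizer_le_normalizer _
  set K := C.subgroupOf H with hKdef
  set Q := (P : Subgroup G).subgroupOf H with hQdef
  have hKn : K.Normal := Subgroup.normal_subgroupOf_centralizer_normalizer _
  have hQn : Q.Normal := Subgroup.normal_in_normalizer
  have hQK : Q ≤ K := fun y hy => hPC hy
  have hcen : ∀ k ∈ K, ∀ y ∈ Q, k * y = y * k := fun k hk y hy =>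
    Subtype.ext (hk (y : G) hy).symm
  have hfpf : ∀ n, n ∉ K → ∀ y ∈ Q, n * y = y * n → y = 1 := by
    intro n hn y hy h
    by_contra hne
    apply hn
    change (n : G) ∈ C
    rw [← hstar y hy (fun h => hne (Subtype.ext h))]
    exact Subgroup.mem_centralizer_singleton_iff.2 (congrArg Subtype.val h)
  have hQ : IsPGroup p Q := isPGroup_subgroupOf P.isPGroup' H
  have hi : ¬ p ∣ Q.relIndex K := by
    rw [hQdef, hKdef, Subgroup.relIndex_subgroupOf hCH]
    exact fun h => P.not_dvd_index (h.trans (Dvd.intro _ (Subgroup.relIndex_mul_index hPC)))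
  have hQc : Nat.card Q = Nat.card P := card_subgroupOf_of_le hPH
  have hχ1 : χ ≠ IrrCharacter.triv G := fun h => h1 (by rw [h]; rfl)
  have hkerH : ∀ ψ : IrrCharacter G, ψ ≠ IrrCharacter.triv G →
      ¬ Q ≤ charKer (fun h : H => ψ.1 h) := fun ψ hψ h => hker ψ hψ fun y hy =>
    ψ.isCharacter.mem_charKer.2
      (apply_eq_one_of_mem_charKer (χ := fun h : H => ψ.1 h) (@h ⟨y, hPH hy⟩ hy))
  have hχK : IsCharacter K (fun k : K => χ.1 (k : H)) := (χ.isCharacter.res H).res K
  set x := charDegree χ.1 with hx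
  have hx0 : 0 < x := χ.charDegree_pos
  have he0 : 0 < K.index := Nat.pos_of_ne_zero Subgroup.index_ne_zero_of_finite
  -- the constituents of `χ_C`
  obtain ⟨a, ha⟩ := isCharacter_iff_exists_sum.1 hχK
  have haa : ∀ ξ : IrrCharacter K, classInner (fun k : K => χ.1 (k : H)) ξ.1 = a ξ := fun ξ => by
    rw [ha, classInner_sum_irr (fun ξ => (a ξ : ℂ))]
  obtain ⟨ζ, hζ, hζQ⟩ : ∃ ζ : IrrCharacter K,
      classInner (fun k : K => χ.1 (k : H)) ζ.1 ≠ 0 ∧ ¬ Q.subgroupOf K ≤ charKer ζ.1 := by
    by_contra hno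
    push Not at hno
    apply hkerH χ hχ1
    intro y hy
    have h1 : (⟨y, hQK hy⟩ : K) ∈ charKer (fun k : K => χ.1 (k : H)) :=
      hχK.mem_charKer_iff_constituents.2 fun ζ hζ => hno ζ hζ hy
    exact (χ.isCharacter.res H).mem_charKer.2
      (apply_eq_one_of_mem_charKer (χ := fun k : K => χ.1 (k : H)) h1)
  have horb := ζ.card_irrFinset_orbit
  rw [charInertia_eq_of_fixedPointFree hQK hcen hfpf ζ hζQ] at horb
  have horb' : ∀ ξ ∈ irrFinset (MulAction.orbit H ζ),
      classInner (fun k : K => χ.1 (k : H)) ξ.1 = a ζ := by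
    intro ξ hξ
    obtain ⟨g, rfl⟩ := mem_irrFinset.1 hξ
    rw [← haa ζ]
    exact IrrCharacter.classInner_res_smul (χ.isClassFunction.res H) g ζ
  have haζ : 0 < a ζ := by
    rw [haa] at hζ
    exact Nat.pos_of_ne_zero (by exact_mod_cast hζ)
  have hex : K.index ≤ x := by
    have h2 := hχK.card_mul_le_charDegree _ (a ζ) fun ξ hξ => by
      rw [ξ.isCharacter.classInner_comm hχK]; exact horb' ξ hξ
    rw [horb] at h2
    exact (Nat.le_mul_of_pos_right _ haζ).trans h2
  set M := ∑ ξ : IrrCharacter K, a ξ ^ 2 with hM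
  have hMM : classInner (fun k : K => χ.1 (k : H)) (fun k : K => χ.1 (k : H)) = M := by
    rw [hχK.isClassFunction.classInner_eq_sum hχK.isClassFunction, hM]
    simp [haa, sq]
  have heM : K.index ≤ M := by
    calc K.index = ∑ ξ ∈ irrFinset (MulAction.orbit H ζ), 1 := by simp [horb]
      _ ≤ ∑ ξ ∈ irrFinset (MulAction.orbit H ζ), a ξ ^ 2 := by
          refine Finset.sum_le_sum fun ξ hξ => Nat.one_le_pow _ _ ?_
          have h2 := horb' ξ hξ
          rw [haa] at h2
          have h3 : a ξ = a ζ := by exact_mod_cast h2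
          omega
      _ ≤ M := Finset.sum_le_sum_of_subset (Finset.subset_univ _)
  have hfinal : K.index = 1 ∧ x = 1 := by
    rcases Nat.lt_or_ge (Nat.card P) 4 with h4 | h4
    · have : x = 1 := by nlinarith
      exact ⟨by omega, this⟩
    -- decompose `χ χ̄`
    have hΨ : IsCharacter G (χ.1 * fun g => conj (χ.1 g)) :=
      χ.isCharacter.mul χ.isCharacter.conj
    obtain ⟨b, hb⟩ := isCharacter_iff_exists_sum.1 hΨ
    choose m hm using fun ψ : IrrCharacter G =>
      (IsCharacter.one (G := K)).exists_classInner_eq_nat ((ψ.isCharacter.res H).res K)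
    have hb1 : b (IrrCharacter.triv G) = 1 := by
      have h2 := classInner_sum_irr (fun ψ => (b ψ : ℂ)) (IrrCharacter.triv G)
      rw [← hb] at h2
      have h3 : classInner (χ.1 * fun g => conj (χ.1 g)) (IrrCharacter.triv G).1 =
          classInner χ.1 χ.1 := by
        simp [classInner_def]
      rw [h3, χ.classInner_self] at h2
      exact_mod_cast h2.symm
    have hm1 : m (IrrCharacter.triv G) = 1 := by
      have h2 := hm (IrrCharacter.triv G)
      have h3 := (IrrCharacter.triv K).classInner_self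
      exact_mod_cast h2.symm.trans h3
    have hxs : x ^ 2 = ∑ ψ : IrrCharacter G, b ψ * charDegree ψ.1 := by
      have h2 := congrFun hb 1
      simp only [Pi.mul_apply, IrrCharacter.one_eq_charDegree, map_natCast] at h2
      rw [sq]
      exact_mod_cast h2
    have hMs : M = ∑ ψ : IrrCharacter G, b ψ * m ψ := by
      have h2 : classInner (fun _ => 1) (fun k : K => (χ.1 * fun g => conj (χ.1 g)) (k : H)) =
          M := by
        rw [← hMM]
        simp [classInner_def, mul_comm]
      rw [hb] at h2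
      have h3 : (fun k : K => ∑ ψ : IrrCharacter G, (b ψ : ℂ) * ψ.1 (k : H)) =
          ∑ ψ : IrrCharacter G, fun k : K => (b ψ : ℂ) * ψ.1 (k : H) := by
        funext k; simp
      rw [h3, classInner_sum_right] at h2
      simp only [classInner_const_mul_right, hm, map_natCast] at h2
      exact_mod_cast h2.symm
    rw [← Finset.add_sum_erase _ _ (Finset.mem_univ (IrrCharacter.triv G)), hb1] at hxs hMs
    rw [IrrCharacter.charDegree_triv] at hxs
    rw [hm1] at hMs
    have hbound : (Nat.card P - K.index) * (M - 1) + 1 ≤ x ^ 2 := by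
      rw [hxs, hMs, mul_one, Nat.add_sub_cancel_left, add_comm, Finset.mul_sum]
      refine Nat.add_le_add_left (Finset.sum_le_sum fun ψ hψ => ?_) 1
      rcases Nat.eq_zero_or_pos (b ψ) with h0 | h0
      · simp [h0]
      have h2 : b ψ * charDegree ψ.1 ≤ ∑ ψ ∈ Finset.univ.erase (IrrCharacter.triv G),
          b ψ * charDegree ψ.1 :=
        Finset.single_le_sum (f := fun ψ => b ψ * charDegree ψ.1) (fun _ _ => Nat.zero_le _) hψ
      have h3 : charDegree ψ.1 ≤ b ψ * charDegree ψ.1 := Nat.le_mul_of_pos_left _ h0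
      have h5 := mul_sub_le_charDegree_of_ti hQK hcen hfpf hQ hi (ti P hstar)
        (fun h => by rw [← Subgroup.orderOf_coe]; rfl)
        (by rw [hQc]; exact lt_of_le_of_lt (Nat.add_le_add_right (Nat.pow_le_pow_left hex 2) 1) hdeg)
        (by rwa [hQc]) ψ (Finset.ne_of_mem_erase hψ) (hkerH ψ (Finset.ne_of_mem_erase hψ))
        (by rw [hQc]; omega) (hm ψ)
      rw [hQc] at h5
      rw [mul_left_comm]
      exact Nat.mul_le_mul_left _ h5
    obtain ⟨h5, h6⟩ := arith hdeg hex heM he0 hbound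
    refine ⟨h5, ?_⟩
    rw [h6, Nat.cast_one, ← hχK.isIrr_iff] at hMM
    rw [hx, ← χ.charCenter_eq_top_iff]
    by_contra hne
    refine hK _ inferInstance hne fun y hy => ?_
    have h7 := IrrCharacter.center_le_charCenter ⟨_, hMM⟩
      (subgroupOf_le_center_of_comm hcen (show (⟨⟨y, hPH hy⟩, hPC hy⟩ : K) ∈ Q.subgroupOf K from hy))
    exact χ.mem_charCenter.2 ((IrrCharacter.mem_charCenter ⟨_, hMM⟩).1 h7)
  refine ⟨?_, hfinal.2⟩
  have hHC : H ≤ C := Subgroup.subgroupOf_eq_top.1 (Subgroup.index_eq_one.1 hfinal.1)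
  exact ⟨_, inferInstance, (MonoidHom.ker_transferSylow_isComplement' P hHC).symm.index_eq_card⟩

end Cfsg.Agent.S4486
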