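import Cfsg.Statements.S4485
import Cfsg.Agent.S4486

set_option autoImplicit false
open Cfsg

namespace Cfsg.Agent.S4485

universe u

theorem aux (p : ℕ) (hp : p.Prime) (G : Type u) [Group G] [Finite G] :
    ∀ (P : Sylow p G) (_ : ∀ x ∈ (P : Subgroup G), x ≠ 1 → Subgroup.centralizer ({x} : Set G) =
      Subgroup.centralizer ((P : Subgroup G) : Set G)) (χ : G → ℂ) (_ : IsCharacter G χ)
      (_ : ∀ g : G, χ g = χ 1 → g = 1) (_ : charDegree χ ^ 2 + 1 < Nat.card P),
      (P : Subgroup G).Normal := by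
  refine induction_on_card (P := fun G _ _ => ∀ (P : Sylow p G)
    (_ : ∀ x ∈ (P : Subgroup G), x ≠ 1 → Subgroup.centralizer ({x} : Set G) =
      Subgroup.centralizer ((P : Subgroup G) : Set G)) (χ : G → ℂ) (_ : IsCharacter G χ)
      (_ : ∀ g : G, χ g = χ 1 → g = 1) (_ : charDegree χ ^ 2 + 1 < Nat.card P),
      (P : Subgroup G).Normal) (fun G _ _ ih => ?_) G
  intro P hstar χ hχ hf hdeg
  have := Fact.mk hp
  have := Fintype.ofFinite G
  by_cases hK : ∃ K : Subgroup G, K.Normal ∧ K ≠ ⊤ ∧ (P : Subgroup G) ≤ K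
  · obtain ⟨K, hKn, hK, hPK⟩ := hK
    have h1 := ih K (card_lt_of_ne_top hK) (P.subtype hPK) (fun x hx hx1 => by
      rw [Sylow.coe_subtype, centralizer_subgroupOf hPK, centralizer_singleton_subgroupOf,
        hstar x hx (fun h => hx1 (Subtype.ext h))]) (fun k => χ k) (hχ.res K)
      (fun g hg => Subtype.ext (hf g hg)) (by
        rw [charDegree_res, Sylow.coe_subtype, card_subgroupOf_of_le hPK]; exact hdeg)
    have h2 := Sylow.characteristic_of_normal (P.subtype hPK) h1
    have h3 := normal_map_subtype_of_characteristic K ((P.subtype hPK : Sylow p K) : Subgroup K)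
    rwa [Sylow.coe_subtype, Subgroup.subgroupOf_map_subtype, inf_eq_left.2 hPK] at h3
  obtain ⟨n, hn⟩ := P.isPGroup'.exists_card_eq
  have hpG : p ∣ Nat.card G := by
    refine dvd_trans ?_ (Subgroup.card_subgroup_dvd_card (P : Subgroup G))
    rw [hn] at hdeg ⊢
    refine dvd_pow_self p ?_
    rintro rfl
    simp at hdeg
  have h1 : commutator G ≤ charKer χ := by
    intro g hg
    rw [hχ.mem_charKer_iff_constituents]
    intro ψ hψ
    refine ψ.charDegree_eq_one_iff_commutator_le.1 ?_ hg
    by_cases h2 : ψ.1 = fun _ => 1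
    · rw [h2]; exact IrrCharacter.charDegree_triv
    have h3 := hχ.charDegree_le_of_constituent ψ hψ
    exact ((S4486.result p hp hpG P hstar n hn ψ h2 (lt_of_le_of_lt
      (Nat.add_le_add_right (Nat.pow_le_pow_left h3 2) 1) (hn ▸ hdeg))).resolve_left hK).2
  rw [hχ.charKer_eq_bot_iff.2 hf] at h1
  exact Subgroup.Normal.of_commutator_le G (h1.trans bot_le)

/-- Let G be a finite group and p a prime dividing its order such that every non-identity element of a Sylow p-subgroup P has the same centralizer as P itself (so P is abelian); let p^n be the order of P. If G has a faithful character of degree x with x² < p^n − 1, then P is normal in G. -/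
theorem result {G : Type*} [Group G] [Finite G] (p : ℕ) (hp : p.Prime) (hpG : p ∣ Nat.card G) (P : Sylow p G) (hstar : ∀ x ∈ (P : Subgroup G), x ≠ 1 → Subgroup.centralizer ({x} : Set G) = Subgroup.centralizer ((P : Subgroup G) : Set G)) (n : ℕ) (hn : Nat.card P = p ^ n) (χ : G → ℂ) (hχ : Cfsg.IsCharacter G χ) (hfaith : ∀ g : G, χ g = χ 1 → g = 1) (hdeg : Cfsg.charDegree χ ^ 2 + 1 < p ^ n) : (P : Subgroup G).Normal := by
  exact aux p hp G P hstar χ hχ hfaith (hn ▸ hdeg)

end Cfsg.Agent.S4485
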