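import Cfsg.Statements.S4709
import Cfsg.Agent.Blk.AbFrob

set_option autoImplicit false
open Cfsg

namespace Cfsg.Agent.S4709

/-- Let p be a prime, M a maximal ideal of the algebraic integers containing p, and G a finite group with a nontrivial abelian Sylow p-subgroup P; put N = N_G(P), C = C_G(P). Suppose N/C is cyclic of order m with 1 < m < #P − 1 (C has index m in N and N is generated by C and one element), and C_G(y) ∩ N = C for every non-identity y ∈ P. Put r = (#P − 1)/m. Then there is s ≤ m such that the principal p-block is the disjoint union of a set X of s characters containing the principal character and a set Y of r characters, with integers a_χ ≠ 0 (χ ∈ X), d and a sign δ = ±1, such that: every χ ∈ X takes the value a_χ at every element whose p-part is a non-identity element of P; there is a map ζ from the non-principal linear characters ψ of P onto Y, constant on N-conjugacy classes,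 with ζ_ψ(z) = d + δ·Σ ψ'(y) for every z whose p-part y is a non-identity element of P, the sum running over the N-conjugates ψ' of ψ; (d − δ)^2 + (r − 1) d^2 + Σ_{χ ∈ X} a_χ^2 = m + 1; all members of Y agree on p-regular elements; and (r d − δ) η(g) + Σ_{χ ∈ X} a_χ χ(g) = 0 for every η ∈ Y and every p-regular g. -/
theorem result {G : Type*} [Group G] [Finite G] (p : ℕ) [Fact p.Prime] (M : Ideal Cfsg.AlgInt) (hM : Cfsg.IsPModular p M) (P : Sylow p G) (hab : IsMulCommutative P) (hP1 : Nat.card P ≠ 1) (m : ℕ) (hm1 : 1 < m) (hm2 : m + 1 < Nat.card P) (hCN : (Subgroup.centralizer ((P : Subgroup G) : Set G)).relIndex (Subgroup.normalizer ((P : Subgroup G) : Set G)) = m) (hcyc : ∃ g : G, g ∈ Subgroup.normalizer ((P : Subgroup G) : Set G) ∧ Subgroup.centralizer ((P : Subgroup G) : Set G) ⊔ Subgroup.zpowers g = Subgroup.normalizer ((P : Subgroup G) : Set G)) (hfrob : ∀ y : G, y ∈ (P : Subgroup G) → y ≠ 1 →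 Subgroup.centralizer ({y} : Set G) ⊓ Subgroup.normalizer ((P : Subgroup G) : Set G) = Subgroup.centralizer ((P : Subgroup G) : Set G)) : ∃ (s : ℕ) (X Y : Set (Cfsg.IrrCharacter G)), s ≤ m ∧ Cfsg.principalBlock M G = X ∪ Y ∧ Disjoint X Y ∧ Nat.card X = s ∧ Nat.card Y = (Nat.card P - 1) / m ∧ (∃ χ₁ ∈ X, (χ₁ : G → ℂ) = fun _ => 1) ∧ ∃ (a : Cfsg.IrrCharacter G → ℤ) (d δ : ℤ) (ζ : (↥(P : Subgroup G) →* ℂˣ) → Cfsg.IrrCharacter G), (δ = 1 ∨ δ = -1) ∧ (∀ χ ∈ X, a χ ≠ 0 ∧ ∀ z y : G, Cfsg.IsPPart p z y → y ∈ (P : Subgroup G) → y ≠ 1 → (χ : G → ℂ) z = (a χ : ℂ)) ∧ (∀ ψ : ↥(P : Subgroup G) →* ℂˣ, ψ ≠ 1 → ζ ψ ∈ Y) ∧ (∀ η ∈ Y, ∃ ψ : ↥(P : Subgroup G) →* ℂˣ, ψ ≠ 1 ∧ ζ ψ = η) ∧ (∀ ψ ψ' : ↥(P : Subgroup G) →* ℂˣ, ψ ≠ 1 → (∃ n : G, n ∈ Subgroup.normalizer ((P : Subgroup G) : Set G) ∧ ∀ w w' : ↥(P : Subgroup G), (w' : G) = n * w * n⁻¹ → ψ' w' = ψ w) → ζ ψ' = ζ ψ) ∧ (∀ ψ : ↥(P : Subgroup G) →* ℂˣ, ψ ≠ 1 → ∀ (z : G) (y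 : ↥(P : Subgroup G)), Cfsg.IsPPart p z (y : G) → (y : G) ≠ 1 → (ζ ψ : G → ℂ) z = (d : ℂ) + (δ : ℂ) * ∑ᶠ ψ' ∈ {ψ' : ↥(P : Subgroup G) →* ℂˣ | ∃ n : G, n ∈ Subgroup.normalizer ((P : Subgroup G) : Set G) ∧ ∀ w w' : ↥(P : Subgroup G), (w' : G) = n * w * n⁻¹ → ψ' w' = ψ w}, ((ψ' y : ℂˣ) : ℂ)) ∧ ((d - δ) ^ 2 + ((Nat.card P - 1) / m - 1 : ℤ) * d ^ 2 + ∑ᶠ χ ∈ X, a χ ^ 2 = (m : ℤ) + 1) ∧ (∀ η ∈ Y, ∀ η' ∈ Y, ∀ g : G, ¬ p ∣ orderOf g → (η : G → ℂ) g = (η' : G → ℂ) g) ∧ (∀ η ∈ Y, ∀ g : G, ¬ p ∣ orderOf g → ((((Nat.card P - 1) / m : ℕ) : ℂ) * d - δ) * (η : G → ℂ) g + ∑ᶠ χ ∈ X, (a χ : ℂ) * (χ : G → ℂ) g = 0) := by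
  classical
  have hab' : IsMulCommutative (P : Subgroup G) := hab
  have := Fintype.ofFinite (P : Subgroup G)
  have := Fintype.ofFinite ((P : Subgroup G) →* ℂˣ)
  change m + 1 < Nat.card (P : Subgroup G) at hm2
  change ∃ (s : ℕ) (X Y : Set (IrrCharacter G)), _ ∧ _ ∧ _ ∧ _ ∧
    _ = (Nat.card (P : Subgroup G) - 1) / m ∧ _ ∧
    ∃ (a : IrrCharacter G → ℤ) (d δ : ℤ) (ζ : ((P : Subgroup G) →* ℂˣ) → IrrCharacter G),
      _ ∧ _ ∧ _ ∧ _ ∧ (∀ ψ ψ', _ → ψ' ∈ dualOrbit _ ψ → _) ∧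
      (∀ ψ, _ → ∀ z y, _ → _ → _ = _ + _ * ∑ᶠ ψ' ∈ dualOrbit _ ψ, _) ∧
      (_ + ((Nat.card (P : Subgroup G) - 1) / m - 1 : ℤ) * _ + _ = _) ∧ _ ∧
      ∀ η ∈ Y, ∀ g, _ → ((((Nat.card (P : Subgroup G) - 1) / m : ℕ) : ℂ) * _ - _) * _ + _ = 0
  choose b hb using fun (ψ : (P : Subgroup G) →* ℂˣ) (χ : IrrCharacter G) =>
    χ.isCharacter.exists_fourB_eq_int ψ⁻¹
  have hinv : ∀ ψ : (P : Subgroup G) →* ℂˣ, ψ ≠ 1 → ψ⁻¹ ≠ 1 :=
    fun ψ h e => h ((@inv_eq_one (_ →* ℂˣ) _ ψ).1 e)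
  set κ := {o : Quotient (dualSetoid (P : Subgroup G)) // o ≠ ⟦1⟧}
  have hq : ∀ ψ ψ' : (P : Subgroup G) →* ℂˣ, (⟦ψ'⟧ : Quotient (dualSetoid (P : Subgroup G))) = ⟦ψ⟧ ↔
      ψ' ∈ dualOrbit _ ψ := fun ψ ψ' => Quotient.eq.trans dualSetoid_iff
  have hq1 : ∀ ψ : (P : Subgroup G) →* ℂˣ,
      (⟦ψ⟧ : Quotient (dualSetoid (P : Subgroup G))) = ⟦1⟧ ↔ ψ = 1 := fun ψ => by
    rw [hq, dualOrbit_one, Set.mem_singleton_iff]
  have hout : ∀ o : κ, o.1.out ≠ 1 := fun o e =>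
    o.2 ((Quotient.out_eq _).symm.trans (congrArg _ e))
  have hκ : Fintype.card κ * m = Nat.card (P : Subgroup G) - 1 := by
    rw [← card_unitsHom_of_comm, Nat.card_eq_fintype_card, ← Finset.card_univ, ← Finset.card_univ,
      ← Finset.card_erase_of_mem (Finset.mem_univ (1 : (P : Subgroup G) →* ℂˣ)),
      Finset.card_eq_sum_card_fiberwise (f := fun ψ => (⟦ψ⟧ : Quotient (dualSetoid _)))
        (s := Finset.univ.erase 1) (t := Finset.univ.erase (Quotient.mk _ 1)) (fun ψ h => by simpa [hq1] using h),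
      Finset.sum_subtype (p := (· ≠ ⟦1⟧)) _ (by simp), ← smul_eq_mul, ← Finset.sum_const]
    refine Finset.sum_congr rfl fun o _ => ?_
    rw [← hCN, ← card_dualOrbit hfrob (hout o), Nat.card_eq_fintype_card, Fintype.card_subtype]
    congr 1
    ext ψ
    simp only [Finset.mem_filter, Finset.mem_univ, true_and, Finset.mem_erase, and_true, ← hq,
      Quotient.out_eq]
    exact ⟨fun e => ⟨fun e' => o.2 (by rw [← e, e']), e⟩, fun e => e.2⟩
  have hr : (Nat.card (P : Subgroup G) - 1) / m = Fintype.card κ := by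
    rw [← hκ, Nat.mul_div_cancel _ (by omega)]
  have hr' : ((Nat.card (P : Subgroup G) : ℤ) - 1) / m = Fintype.card κ := by
    rw [← hr]
    push_cast [show 1 ≤ Nat.card (P : Subgroup G) by omega]
    rfl
  have : Nontrivial κ := Fintype.one_lt_card_iff_nontrivial.1 (by
    by_contra h
    have := Nat.mul_le_mul_right m (not_lt.1 h)
    omega)
  have hcc : ∀ i j : κ, ∑ χ ∈ irrFinset (principalBlock M G), b i.1.out χ * b j.1.out χ =
      m + if i = j then 1 else 0 := fun i j => by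
    have := hM.sum_fourB_mul_conj_of_frob hfrob (hinv _ (hout i)) (hinv _ (hout j))
    rw [hCN, if_congr (inv_mem_dualOrbit_inv.trans (show _ ↔ i = j by
      rw [← hq, Quotient.out_eq, Quotient.out_eq, eq_comm, Subtype.ext_iff])) rfl rfl] at this
    simp only [hb, map_intCast] at this
    apply Int.cast_injective (α := ℂ)
    push_cast
    exact this
  have hρ : ∀ g, ¬ p ∣ orderOf g → ∀ ψ, ∑ χ ∈ irrFinset (principalBlock M G), b ψ χ * χ.1 g = 0 :=
    fun g hg ψ => by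
      simpa only [hb, map_intCast, mul_comm] using hM.sum_mul_conj_fourB_eq_zero P.isPGroup' hg ψ⁻¹
  have hd : ∀ ψ, ∑ χ ∈ irrFinset (principalBlock M G), b ψ χ * (charDegree χ.1 : ℤ) = 0 := fun ψ => by
    have := hρ 1 (by simpa using hM.1.ne_one) ψ
    simp only [IrrCharacter.one_eq_charDegree] at this
    exact_mod_cast this
  obtain ⟨δ, hδ, y, hy, hyB, w, d, hwd, hw⟩ := exists_exceptional_of_gram
    (deg := fun χ : IrrCharacter G => charDegree χ.1) (fun χ _ => by exact_mod_cast χ.charDegree_pos)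
    hcc fun i j => by rw [hd, hd]
  have hδ0 : δ ≠ 0 := by omega
  have hw' : ∀ ψ (h : ψ ≠ 1), ∀ χ ∈ principalBlock M G,
      b ψ χ = w χ + if χ = y ⟨⟦ψ⟧, mt (hq1 ψ).1 h⟩ then δ else 0 := fun ψ h χ hχ => by
    rw [← hw _ χ (mem_irrFinset.2 hχ)]
    apply Int.cast_injective (α := ℂ)
    rw [← hb, ← hb, fourB_eq_of_mem_dualOrbit χ.isClassFunction
      (inv_mem_dualOrbit_inv.2 ((hq _ _).1 (Quotient.out_eq _)))]
  have hval : ∀ χ ∈ principalBlock M G, ∀ (z : G) (s : (P : Subgroup G)), IsPPart p z s →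
      (s : G) ≠ 1 → χ.1 z = -w χ + δ * ∑ ψ : (P : Subgroup G) →* ℂˣ,
        if ∃ h : ψ ≠ 1, χ = y ⟨⟦ψ⟧, mt (hq1 ψ).1 h⟩ then (ψ s : ℂ) else 0 := by
    intro χ hχ z s hz hs
    have hs' : s ≠ 1 := fun e => hs (congrArg Subtype.val e)
    have h1 := (sum_unitsHom_apply s).trans (if_neg hs')
    rw [hM.apply_eq_of_hasNormalPComplement rfl (hasNormalPComplement_centralizer_of_frob hfrob s.2
      hs) hχ (isPPart_iff.1 hz ▸ IsConj.refl _), ← sum_fourB_inv_mul χ.1 hs', Finset.mul_sum,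
      ← Finset.add_sum_erase _ _ (Finset.mem_univ 1), ← Finset.add_sum_erase _ _ (Finset.mem_univ 1),
      show (1 : (P : Subgroup G) →* ℂˣ)⁻¹ = 1 from MonoidHom.ext fun _ => inv_one, fourB_one, if_neg (by simp),
      Finset.sum_congr rfl fun ψ h => show _ = w χ * (ψ s : ℂ) + δ *
        if ∃ h : ψ ≠ 1, χ = y ⟨⟦ψ⟧, mt (hq1 ψ).1 h⟩ then (ψ s : ℂ) else 0 by
        have h' := (Finset.mem_erase.1 h).1
        rw [hb, hw' ψ h' χ hχ, if_congr (exists_prop_of_true h') rfl rfl]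
        split_ifs <;> push_cast <;> ring,
      Finset.sum_add_distrib, ← Finset.mul_sum]
    rw [← Finset.add_sum_erase _ _ (Finset.mem_univ 1), MonoidHom.one_apply, Units.val_one] at h1
    linear_combination (w χ : ℂ) * h1
  set X := {χ | χ ∈ principalBlock M G ∧ χ ∉ Set.range y} with hX
  have hsum : ∀ {A : Type} [AddCommMonoid A] (f : IrrCharacter G → A),
      ∑ χ ∈ irrFinset (principalBlock M G), f χ = ∑ᶠ χ ∈ X, f χ + ∑ k, f (y k) := fun f => by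
    rw [finsum_mem_irr, ← Finset.sum_image (s := Finset.univ) hy.injOn, ← Finset.sum_union]
    · refine Finset.sum_congr (Finset.ext fun χ => ?_) fun _ _ => rfl
      simp only [mem_irrFinset, Finset.mem_union, hX, Set.mem_ofPred_eq, Finset.mem_image,
        Finset.mem_univ, true_and, Set.mem_range]
      exact ⟨fun h => by tauto, fun h => h.elim And.left fun ⟨k, e⟩ => e ▸ mem_irrFinset.1 (hyB k)⟩
    · rw [Finset.disjoint_left]
      exact fun χ h h' => (mem_irrFinset.1 h).2 (by simpa using h')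
  have hXv : ∀ χ ∈ X, ∀ z s : G, IsPPart p z s → s ∈ (P : Subgroup G) → s ≠ 1 →
      χ.1 z = (-w χ : ℤ) := fun χ hχ z s h1 h2 h3 => by
    rw [hval χ hχ.1 z ⟨s, h2⟩ h1 h3, Finset.sum_eq_zero fun ψ _ =>
      if_neg fun ⟨_, e⟩ => hχ.2 ⟨_, e.symm⟩]
    simp
  have hX0 : ∀ χ ∈ X, -w χ ≠ 0 := fun χ hχ e => by
    have : Nontrivial (P : Subgroup G) := Finite.one_lt_card_iff_nontrivial.1 (by omega)
    obtain ⟨s, hs⟩ := exists_ne (1 : (P : Subgroup G))
    have hs' : (s : G) ≠ 1 := fun e => hs (Subtype.ext e)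
    have h1 := exists_orderOf_eq_pow_of_mem P.isPGroup' s.2
    refine hM.apply_ne_zero_of_major h1 rfl (hasNormalPComplement_centralizer_of_frob hfrob s.2 hs')
      (not_dvd_index_centralizer_of_comm s.2) hχ.1 ?_
    rw [hXv χ hχ s s (isPPart_iff.2 (pPart_eq_self_iff.2 h1).symm) s.2 hs', e, Int.cast_zero]
  have hbX : ∀ k : κ, ∀ χ ∈ X, b k.1.out χ = w χ := fun k χ hχ => by
    rw [hw k χ (mem_irrFinset.2 hχ.1), if_neg fun e => hχ.2 ⟨k, e.symm⟩, add_zero]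
  have hby : ∀ k l : κ, b k.1.out (y l) = d + if l = k then δ else 0 := fun k l => by
    rw [hw k _ (hyB l), hwd, if_congr hy.eq_iff rfl rfl]
  obtain ⟨k₀⟩ : Nonempty κ := inferInstance
  have hnorm : (-d - δ) ^ 2 + ((Fintype.card κ : ℤ) - 1) * (-d) ^ 2 + ∑ᶠ χ ∈ X, (-w χ) ^ 2 =
      (m : ℤ) + 1 := by
    have := hcc k₀ k₀
    rw [if_pos rfl, hsum, finsum_mem_congr rfl fun χ hχ => show _ = (-w χ) ^ 2 by
      rw [hbX k₀ χ hχ]; ring, ← Finset.add_sum_erase _ _ (Finset.mem_univ k₀),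
      Finset.sum_congr rfl fun l hl => by rw [hby, if_neg (Finset.mem_erase.1 hl).1],
      Finset.sum_const, Finset.card_erase_of_mem (Finset.mem_univ _), Finset.card_univ, hby,
      if_pos rfl, nsmul_eq_mul, Nat.cast_pred Fintype.card_pos] at this
    linear_combination this
  have hrel : ∀ g, ¬ p ∣ orderOf g → ∀ k : κ, ∑ᶠ χ ∈ X, ((-w χ : ℤ) : ℂ) * χ.1 g =
      d * ∑ l, (y l).1 g + δ * (y k).1 g := fun g hg k => by
    have := hρ g hg k.1.out
    rw [hsum, finsum_mem_irr, Finset.sum_congr rfl fun χ hχ => by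
      rw [hbX k χ (mem_irrFinset.1 hχ)]] at this
    simp only [hby, Int.cast_add, add_mul, Finset.sum_add_distrib, ← Finset.mul_sum, Int.cast_ite,
      ite_mul, Int.cast_zero, zero_mul] at this
    rw [Fintype.sum_eq_single k (f := fun x => ite _ _ _) fun l h => if_neg h, if_pos rfl] at this
    simp only [finsum_mem_irr, Int.cast_neg, neg_mul, Finset.sum_neg_distrib]
    linear_combination -this
  have heq : ∀ g, ¬ p ∣ orderOf g → ∀ k l : κ, (y k).1 g = (y l).1 g := fun g hg k l =>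
    mul_left_cancel₀ (Int.cast_ne_zero.2 hδ0)
      (add_left_cancel ((hrel g hg k).symm.trans (hrel g hg l)))
  refine ⟨Nat.card X, X, Set.range y, ?_, ?_, Set.disjoint_left.2 fun χ h => h.2, rfl, ?_,
    ⟨IrrCharacter.triv G, ⟨hM.triv_mem_principalBlock, ?_⟩, rfl⟩, fun χ => -w χ, -d, δ,
    fun ψ => if h : ψ = 1 then IrrCharacter.triv G else y ⟨⟦ψ⟧, mt (hq1 ψ).1 h⟩, hδ,
    fun χ hχ => ⟨hX0 χ hχ, hXv χ hχ⟩, fun ψ h => by simp [h], ?_, fun ψ ψ' h h' => ?_,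
    fun ψ h z s h1 h2 => ?_, by rw [hr', hnorm], ?_, ?_⟩
  · have h1 : (Nat.card X : ℤ) ≤ ∑ᶠ χ ∈ X, (-w χ) ^ 2 := by
      rw [finsum_mem_irr, ← card_irrFinset, Finset.card_eq_sum_ones, Nat.cast_sum]
      exact Finset.sum_le_sum fun χ hχ => by
        simpa using Int.one_le_abs (pow_ne_zero 2 (hX0 χ (mem_irrFinset.1 hχ)))
    have h2 : (2 : ℤ) ≤ Fintype.card κ := by exact_mod_cast Fintype.one_lt_card
    have h3 : 1 ≤ (-d - δ) ^ 2 + ((Fintype.card κ : ℤ) - 1) * (-d) ^ 2 := by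
      by_cases h : d = 0
      · rcases hδ with rfl | rfl <;> simp [h]
      · have := Int.one_le_abs (pow_ne_zero 2 h)
        rw [abs_of_nonneg (sq_nonneg d)] at this
        nlinarith [sq_nonneg (-d - δ)]
    omega
  · ext χ
    exact ⟨fun h => by_contra fun h' => h' (Or.inl ⟨h, fun e => h' (Or.inr e)⟩),
      fun h => h.elim And.left fun ⟨k, e⟩ => e ▸ mem_irrFinset.1 (hyB k)⟩
  · rw [hr, Nat.card_range_of_injective hy, Nat.card_eq_fintype_card]
  · rintro ⟨k, e⟩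
    obtain ⟨l, hl⟩ := exists_ne k
    have h1 : ∀ k : κ, b k.1.out (IrrCharacter.triv G) = -1 := fun k => by
      apply Int.cast_injective (α := ℂ)
      rw [← hb, Int.cast_neg, Int.cast_one, ← fourB_const (hinv _ (hout k))]; rfl
    have h2 := hby k k
    have h3 := hby l k
    rw [e, h1] at h2 h3
    rw [if_pos rfl] at h2
    rw [if_neg hl.symm] at h3
    omega
  · rintro _ ⟨k, rfl⟩
    exact ⟨k.1.out, hout k, by simp [hout k]⟩
  · have h1 : ψ' ≠ 1 := fun e => h ((hq1 ψ).1 (by rw [← (hq _ _).2 h', e]))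
    simp only [dif_neg h, dif_neg h1, (hq _ _).2 h']
  · beta_reduce
    rw [dif_neg h, hval _ (mem_irrFinset.1 (hyB _)) z s h1 h2, hwd, Int.cast_neg,
      finsum_mem_eq_finite_toFinset_sum _ (Set.toFinite _), ← Finset.sum_filter]
    congr 2
    refine Finset.sum_congr (Finset.ext fun ψ' => ?_) fun _ _ => rfl
    simp only [Finset.mem_filter, Finset.mem_univ, true_and, Set.Finite.mem_toFinset, hy.eq_iff,
      ← hq]
    exact ⟨fun ⟨_, e⟩ => (congrArg Subtype.val e).symm,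
      fun e => ⟨fun e' => h ((hq1 ψ).1 (by rw [← e, e'])), Subtype.ext e.symm⟩⟩
  · rintro _ ⟨k, rfl⟩ _ ⟨l, rfl⟩ g hg
    exact heq g hg k l
  · rintro _ ⟨k, rfl⟩ g hg
    rw [hrel g hg k, hr, Finset.sum_congr rfl fun l _ => heq g hg l k, Finset.sum_const,
      Finset.card_univ, nsmul_eq_mul]
    push_cast
    ring

end Cfsg.Agent.S4709
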