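import Cfsg.Statements.S4721
import Cfsg.Agent.S4709
import Cfsg.Agent.Blk.DihCount

set_option autoImplicit false
open Cfsg

namespace Cfsg.Agent.S4721

open scoped ComplexConjugate

theorem isSquare_aux {a b c : ℕ} {x y z : ℤ} (ha : 0 < a) (hb : 0 < b) (hc : 0 < c)
    (hz : z ≠ c) (h1 : 1 + a = b + c) (h2 : 1 + x = y + z)
    (h3 : (1 : ℝ) + x ^ 2 / a = y ^ 2 / b + z ^ 2 / c) : IsSquare (a * b * c) := by
  have h4 : ((a : ℤ) + x ^ 2) * b * c = a * (y ^ 2 * c + z ^ 2 * b) := by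
    apply Int.cast_injective (α := ℝ)
    push_cast
    field_simp at h3
    linear_combination h3
  have h5 : (a : ℤ) = b + c - 1 := by omega
  have h6 : x = y + z - 1 := by omega
  have h7 : ((y - b) * c * (c - 1) - (z - c) * b * c) ^ 2 = (z - c) ^ 2 * (a * b * c) := by
    rw [h5, h6] at h4
    rw [h5]
    linear_combination (c * (c - 1) : ℤ) * -h4
  rw [← Rat.isSquare_natCast_iff]
  refine ⟨((y - b) * c * (c - 1) - (z - c) * b * c) / (z - c), ?_⟩
  have h8 : (z : ℚ) - c ≠ 0 := sub_ne_zero.2 (by exact_mod_cast hz)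
  have h9 := congrArg (Int.cast : ℤ → ℚ) h7
  push_cast at h9 ⊢
  rw [div_mul_div_comm, eq_div_iff (mul_ne_zero h8 h8)]
  linear_combination -h9

theorem arith {ε₁ ε₂ ε₃ : ℤ} {a b c : ℕ} {x y z : ℤ} (e1 : ε₁ = 1 ∨ ε₁ = -1) (e2 : ε₂ = 1 ∨ ε₂ = -1)
    (e3 : ε₃ = 1 ∨ ε₃ = -1) (ha : 0 < a) (hb : 0 < b) (hc : 0 < c) (hx : x ≠ a) (hy : y ≠ b)
    (hz : z ≠ c) (h1 : 1 + ε₁ * a + ε₂ * b + ε₃ * c = 0) (h2 : 1 + ε₁ * x + ε₂ * y + ε₃ * z = 0)
    (h3 : (1 : ℝ) + ε₁ * (x ^ 2 / a) + ε₂ * (y ^ 2 / b) + ε₃ * (z ^ 2 / c) = 0) :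
    ε₁ + ε₂ + ε₃ = -1 ∧ IsSquare (a * b * c) := by
  have key : ∀ σ : ℝ, σ ≠ 0 → ¬ ∀ i j : Fin 4, 0 < σ * ![(1 : ℝ), ε₁, ε₂, ε₃] i →
      0 < σ * ![(1 : ℝ), ε₁, ε₂, ε₃] j → i = j := fun σ hσ h => by
    obtain ⟨k, hk⟩ := exists_ratio_of_card_pos_le_one Finset.univ
      (fun i => σ * ![(1 : ℝ), ε₁, ε₂, ε₃] i) ![1, x, y, z] ![1, a, b, c]
      (fun i _ => by fin_cases i <;> simp [ha, hb, hc])
      (by simp only [Fin.sum_univ_four]; simp; linear_combination σ * h3)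
      (by
        have := congrArg (Int.cast : ℤ → ℝ) h1
        push_cast at this
        simp only [Fin.sum_univ_four]; simp; linear_combination σ * this)
      (by
        have := congrArg (Int.cast : ℤ → ℝ) h2
        push_cast at this
        simp only [Fin.sum_univ_four]; simp; linear_combination σ * this)
      fun i _ j _ => h i j
    have k0 := hk 0 (Finset.mem_univ _) (by simpa using hσ)
    have k1 := hk 1 (Finset.mem_univ _) (by rcases e1 with rfl | rfl <;> simpa using hσ)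
    simp at k0 k1
    rw [← k0, one_mul] at k1
    exact hx (by exact_mod_cast k1)
  rcases e1 with rfl | rfl <;> rcases e2 with rfl | rfl <;> rcases e3 with rfl | rfl
  · omega
  · exact absurd (fun i j => by fin_cases i <;> fin_cases j <;> simp) (key (-1) (by norm_num))
  · exact absurd (fun i j => by fin_cases i <;> fin_cases j <;> simp) (key (-1) (by norm_num))
  · exact ⟨by norm_num, isSquare_aux (x := x) (y := y) ha hb hc hz (by omega) (by omega) (by
      push_cast at h3; linear_combination h3)⟩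
  · exact absurd (fun i j => by fin_cases i <;> fin_cases j <;> simp) (key (-1) (by norm_num))
  · refine ⟨by norm_num, ?_⟩
    rw [mul_comm a]
    exact isSquare_aux (x := y) (y := x) hb ha hc hz (by omega) (by omega) (by
      push_cast at h3; linear_combination h3)
  · refine ⟨by norm_num, ?_⟩
    rw [mul_comm, ← mul_assoc]
    exact isSquare_aux (x := z) (y := x) hc ha hb hy (by omega) (by omega) (by
      push_cast at h3; linear_combination h3)
  · exact absurd (fun i j => by fin_cases i <;> fin_cases j <;> simp) (key 1 (by norm_num))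

section
variable {G : Type*} [Group G] [Finite G] {p : ℕ} [Fact p.Prime] {P : Sylow p G}
  [IsMulCommutative (P : Subgroup G)]
  (hfrob : ∀ y : G, y ∈ (P : Subgroup G) → y ≠ 1 → Subgroup.centralizer ({y} : Set G) ⊓
    Subgroup.normalizer ((P : Subgroup G) : Set G) =
      Subgroup.centralizer ((P : Subgroup G) : Set G))
  (hCN : (Subgroup.centralizer ((P : Subgroup G) : Set G)).relIndex
    (Subgroup.normalizer ((P : Subgroup G) : Set G)) = 3)
include hfrob hCN

omit [Fact p.Prime] in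
theorem three_dvd : 3 ∣ Nat.card (P : Subgroup G) - 1 := by
  classical
  have := Fintype.ofFinite ((P : Subgroup G) →* ℂˣ)
  rw [← card_unitsHom_of_comm, Nat.card_eq_fintype_card, ← Finset.card_univ,
    ← Finset.card_erase_of_mem (Finset.mem_univ (1 : (P : Subgroup G) →* ℂˣ)),
    Finset.card_eq_sum_card_image (Quotient.mk (dualSetoid (P : Subgroup G)))]
  refine Finset.dvd_sum fun o ho => dvd_of_eq ?_
  obtain ⟨ψ, hψ, rfl⟩ := Finset.mem_image.1 ho
  have h1 := (Finset.mem_erase.1 hψ).1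
  rw [← hCN, ← card_dualOrbit hfrob h1, Nat.card_eq_fintype_card, Fintype.card_subtype]
  congr 1
  ext ψ'
  simp only [Finset.mem_filter, Finset.mem_univ, true_and, Finset.mem_erase, and_true,
    Quotient.eq, ← dualSetoid_iff]
  refine ⟨fun e => ⟨?_, e⟩, fun e => e.2⟩
  rintro rfl
  exact h1 (by simpa [dualOrbit_one] using dualSetoid_iff.1 ((dualSetoid _).symm e))

omit hfrob hCN in
theorem fusion {y z : G} (hy : y ∈ (P : Subgroup G)) (hz : z ∈ (P : Subgroup G)) (h : IsConj y z) :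
    ∃ n ∈ Subgroup.normalizer ((P : Subgroup G) : Set G), n * y * n⁻¹ = z := by
  obtain ⟨g, rfl⟩ := isConj_iff.1 h
  obtain ⟨n, hn, e⟩ := P.conj_eq_normalizer_conj_of_mem y g⁻¹ hy (by rwa [inv_inv])
  exact ⟨n⁻¹, Subgroup.inv_mem _ hn, by simpa using e.symm⟩

theorem mul_self_eq_one {y : G} (hy : y ∈ (P : Subgroup G)) (h : IsConj y y⁻¹) : y * y = 1 := by
  by_cases hy1 : y = 1
  · simp [hy1]
  obtain ⟨n, hn, e⟩ := fusion hy (Subgroup.inv_mem _ hy) h
  have h1 := pow_relIndex_mem_centralizer le_rfl hn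
  rw [hCN] at h1
  have h2 : n ∈ Subgroup.centralizer ((P : Subgroup G) : Set G) :=
    mem_of_sq_mem_of_odd_pow_mem (by
      rw [← hfrob y hy hy1]
      refine ⟨Subgroup.mem_centralizer_singleton_iff.2 ?_, Subgroup.pow_mem _ hn 2⟩
      rw [← mul_inv_eq_iff_eq_mul, sq, mul_inv_rev, ← mul_assoc, mul_assoc n n, mul_assoc n, e,
        ← conj_inv, e, inv_inv]) (by norm_num) h1
  rw [← Subgroup.mem_centralizer_iff.1 h2 y hy, mul_inv_cancel_right] at e
  exact eq_inv_iff_mul_eq_one.1 e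

theorem exists_hom (hm2 : 3 + 1 < Nat.card (P : Subgroup G))
    (hcyc : ∃ g : G, g ∈ Subgroup.normalizer ((P : Subgroup G) : Set G) ∧
      Subgroup.centralizer ((P : Subgroup G) : Set G) ⊔ Subgroup.zpowers g =
        Subgroup.normalizer ((P : Subgroup G) : Set G)) {t : G} (ht : t * t = 1) :
    ∃ ψ : (P : Subgroup G) →* ℂˣ, ψ ≠ 1 ∧ ∀ y : (P : Subgroup G), IsConj t y → ψ y = 1 := by
  suffices h : ∃ V : Subgroup G, Nat.card V ≤ 4 ∧ ∀ y ∈ (P : Subgroup G), IsConj t y → y ∈ V by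
    obtain ⟨V, h1, h2⟩ := h
    have h3 : (V.subgroupOf P).Normal := Subgroup.normal_of_isMulCommutative _
    have : IsMulCommutative ((P : Subgroup G) ⧸ V.subgroupOf P) :=
      ⟨⟨fun a b => QuotientGroup.induction_on a fun a => QuotientGroup.induction_on b fun b => by
        rw [← QuotientGroup.mk_mul, ← QuotientGroup.mk_mul, mul_comm' a b]⟩⟩
    have : Nontrivial ((P : Subgroup G) ⧸ V.subgroupOf P →* ℂˣ) := by
      rw [← Finite.one_lt_card_iff_nontrivial, card_unitsHom_of_comm]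
      have h4 := card_inf_mul_relIndex V P
      have h5 := Subgroup.card_le_of_le (inf_le_left : V ⊓ P ≤ V)
      by_contra h6
      have := Nat.mul_le_mul (h5.trans h1) (not_lt.1 h6)
      change _ * V.relIndex P ≤ _ at this
      omega
    obtain ⟨μ, hμ⟩ := exists_ne (1 : (P : Subgroup G) ⧸ V.subgroupOf P →* ℂˣ)
    refine ⟨μ.comp (QuotientGroup.mk' _), fun e => hμ (QuotientGroup.monoidHom_ext _ e),
      fun y hy => ?_⟩
    rw [MonoidHom.comp_apply, QuotientGroup.mk'_apply, (QuotientGroup.eq_one_iff y).2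
      (h2 y y.2 hy), map_one]
  by_cases h0 : ∃ y ∈ (P : Subgroup G), IsConj t y
  swap
  · exact ⟨⊥, by simp, fun y hy h => absurd ⟨y, hy, h⟩ h0⟩
  obtain ⟨u, hu, htu⟩ := h0
  obtain ⟨g, hg, hgen⟩ := hcyc
  have hm := fun x => (Subgroup.mem_normalizer_iff.1 hg x).1
  have ho : ∀ y, IsConj t y → orderOf y ≤ 2 := fun y hy => by
    rw [orderOf_eq_of_isConj hy]
    exact orderOf_le_of_pow_eq_one two_pos (by rw [sq, ht])
  have h1 := pow_relIndex_mem_centralizer le_rfl hg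
  rw [hCN] at h1
  have h2 : g * (g * (g * u * g⁻¹) * g⁻¹) * g⁻¹ = u := by
    have := Subgroup.mem_centralizer_iff.1 h1 u hu
    calc _ = g ^ 3 * u * (g ^ 3)⁻¹ := by rw [pow_succ, sq]; group
      _ = u := by rw [← this, mul_inv_cancel_right]
  have h3 : u * (g * u * g⁻¹) * (g * (g * u * g⁻¹) * g⁻¹) = 1 := by
    by_contra h
    have h4 : g ∈ Subgroup.centralizer ((P : Subgroup G) : Set G) := by
      rw [← hfrob _ (Subgroup.mul_mem _ (Subgroup.mul_mem _ hu (hm _ hu)) (hm _ (hm _ hu))) h]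
      refine ⟨Subgroup.mem_centralizer_singleton_iff.2 (mul_inv_eq_iff_eq_mul.1 ?_), hg⟩
      rw [← conj_mul, ← conj_mul, h2, mul_assoc u]
      exact setLike_mul_comm (Subgroup.mul_mem _ (hm _ hu) (hm _ (hm _ hu))) hu
    rw [sup_eq_left.2 (Subgroup.zpowers_le.2 h4)] at hgen
    rw [hgen, Subgroup.relIndex_self] at hCN
    omega
  set V := Subgroup.zpowers u ⊔ Subgroup.zpowers (g * u * g⁻¹) with hV
  have hVP : V ≤ P := sup_le (Subgroup.zpowers_le.2 hu) (Subgroup.zpowers_le.2 (hm _ hu))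
  have hN : Subgroup.normalizer ((P : Subgroup G) : Set G) ≤ Subgroup.normalizer (V : Set G) := by
    rw [← hgen]
    refine sup_le ((Subgroup.centralizer_le hVP).trans (Subgroup.centralizer_le_normalizer _))
      (Subgroup.zpowers_le.2 (Subgroup.mem_normalizer_fintype fun x hx => ?_))
    refine (show V ≤ V.comap (MulAut.conj g).toMonoidHom from sup_le (Subgroup.zpowers_le.2
      (Subgroup.mem_sup_right (Subgroup.mem_zpowers _))) (Subgroup.zpowers_le.2 ?_)) hx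
    change g * _ * g⁻¹ ∈ V
    rw [eq_inv_of_mul_eq_one_right h3]
    exact V.inv_mem (V.mul_mem (Subgroup.mem_sup_left (Subgroup.mem_zpowers _))
      (Subgroup.mem_sup_right (Subgroup.mem_zpowers _)))
  refine ⟨V, (Nat.le_of_dvd (Nat.mul_pos Nat.card_pos Nat.card_pos) (card_sup_dvd_mul
    (Subgroup.zpowers_le.2 (Subgroup.centralizer_le_normalizer _ ?_)))).trans ?_, fun y hy h => ?_⟩
  · rw [centralizer_zpowers, Subgroup.mem_centralizer_singleton_iff]
    exact setLike_mul_comm (hm _ hu) hu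
  · rw [Nat.card_zpowers, Nat.card_zpowers]
    exact Nat.mul_le_mul (ho _ htu) (ho _ (htu.trans (isConj_iff.2 ⟨g, rfl⟩)))
  · obtain ⟨n, hn, rfl⟩ := fusion hu hy (htu.symm.trans h)
    exact (Subgroup.mem_normalizer_iff.1 (hN hn) u).1
      (Subgroup.mem_sup_left (Subgroup.mem_zpowers _))

/-- the `p`-part of a product of two conjugates of `t` is a product of two conjugates in `P` -/
theorem exists_mul_eq {t s s' y : G} (ht : t * t = 1) (hs : IsConj t s) (hs' : IsConj t s')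
    (hy : y ∈ (P : Subgroup G)) (hy1 : y ≠ 1) (h : IsConj (pPart p (s * s')) y) :
    ∃ a ∈ (P : Subgroup G), ∃ b ∈ (P : Subgroup G), IsConj t a ∧ IsConj t b ∧ a * b = y := by
  have hsq : ∀ x, IsConj t x → x * x = 1 := fun x hx => by
    obtain ⟨c, rfl⟩ := isConj_iff.1 hx
    exact conj_mul_self_eq_one ht c
  have h1 := conj_eq_inv_of_mul_involutions (hsq s hs) (hsq s' hs')
  have h2 := conj_pPart_eq_inv p h1
  set v := pPart p (s * s') with hv
  obtain ⟨c, rfl⟩ := isConj_iff.1 h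
  have h3 : v * v = 1 := by
    have := mul_self_eq_one hfrob hCN hy (h.symm.trans ((isConj_iff.2 ⟨s, h2⟩).trans
      (isConj_iff.2 ⟨c, conj_inv.symm⟩)))
    rwa [conj_mul, conj_eq_one_iff] at this
  have hv1 : v ≠ 1 := fun e => hy1 (by simp [e])
  have h4 : orderOf v = 2 := orderOf_eq_prime (by rw [sq, h3]) hv1
  obtain rfl : p = 2 := by
    obtain ⟨k, hk⟩ := exists_orderOf_pPart (p := p) (s * s')
    rw [← hv, h4] at hk
    exact ((Nat.prime_dvd_prime_iff_eq Nat.prime_two Fact.out).1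
      (Nat.prime_two.dvd_of_dvd_pow hk.dvd)).symm
  rw [inv_eq_of_mul_eq_one_right h3, mul_inv_eq_iff_eq_mul] at h2
  have h5 : IsConj t (s * v) := by
    obtain ⟨k, hk⟩ := mem_powers_iff_mem_zpowers.2 (pPart_mem_zpowers 2 (s * s'))
    have h6 : v ^ k = v := by
      rw [hv, ← pPart_pow, show (s * s') ^ k = _ from hk, pPart_pPart]
    obtain ⟨j, rfl | rfl⟩ := Nat.even_or_odd' k
    · rw [pow_mul, sq, h3, one_pow] at h6
      exact absurd h6.symm hv1
    · refine hs'.trans (isConj_iff.2 ⟨((s * s') ^ j)⁻¹, ?_⟩)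
      have h7 : s * (s * s') ^ j * s⁻¹ = ((s * s') ^ j)⁻¹ := by rw [← conj_pow, h1, inv_pow]
      have h8 : s' = s * (s * s') := by rw [← mul_assoc, hsq s hs, one_mul]
      rw [hv, ← hk]
      generalize s * s' = g at h7 h8
      rw [inv_inv, ← h7, h8]
      group
  have h6 : IsPGroup 2 (Subgroup.zpowers v ⊔ Subgroup.zpowers s : Subgroup G) :=
    IsPGroup.to_sup_of_normal_left' (isPGroup_zpowers_pPart _) (IsPGroup.of_card_dvd_pow (n := 1) (by
      rw [Nat.card_zpowers, pow_one]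
      exact orderOf_dvd_of_pow_eq_one (by rw [sq, hsq s hs])))
      (Subgroup.zpowers_le.2 (Subgroup.centralizer_le_normalizer _ (by
        rw [centralizer_zpowers, Subgroup.mem_centralizer_singleton_iff, h2])))
  obtain ⟨d, hd⟩ := exists_conj_smul_le_sylow P h6
  have d1 := hd (conj_mem_conj_smul_iff.2 (Subgroup.mem_sup_left (Subgroup.mem_zpowers _)))
  have d2 := hd (conj_mem_conj_smul_iff.2 (Subgroup.mem_sup_right (Subgroup.mem_zpowers _)))
  obtain ⟨n, hn, e⟩ := fusion d1 hy ((isConj_iff.2 ⟨d, rfl⟩).symm.trans h)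
  have hm := fun x => (Subgroup.mem_normalizer_iff.1 hn x).1
  refine ⟨_, hm _ d2, _, hm _ (Subgroup.mul_mem _ d2 d1),
    (hs.trans (isConj_iff.2 ⟨d, rfl⟩)).trans (isConj_iff.2 ⟨n, rfl⟩),
    (h5.trans (isConj_iff.2 ⟨d, conj_mul.symm⟩)).trans (isConj_iff.2 ⟨n, rfl⟩), ?_⟩
  rw [conj_mul, ← mul_assoc (d * s * d⁻¹), conj_mul_self_eq_one (hsq s hs), one_mul, e]

end

/-- Let p be a prime, M a maximal ideal of the algebraic integers containing p, and G a finite group with a nontrivial abelian Sylow p-subgroup P, N = N_G(P), C = C_G(P), such that N/C is cyclic of order 3, #P > 4, and C_G(y) ∩ N = C for every non-identity y ∈ P. Then the principal p-block is the disjoint union of a set X of exactly 3 characters containing the principal character and a set Y of (#P − 1)/3 characters, with signs a_χ = ±1 (χ ∈ X, a = 1 at the principal character) and δ = ±1 such that every χ ∈ X takes the value a_χ at every element whose p-part is a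 non-identity element of P, and there is a map ζ from the non-principal linear characters of P onto Y, constant on N-conjugacy classes, with ζ_ψ(z) = δ·Σ ψ'(y) over the N-orbit of ψ, for z with p-part y ≠ 1 in P. If moreover G has an involution lying in no proper normal subgroup of G, then exactly two of the three numbers −δ and a_χ (χ ∈ X non-principal) equal −1, and the product of the degrees of the two non-principal members of X and of any member of Y is a perfect square. -/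
theorem result {G : Type*} [Group G] [Finite G] (p : ℕ) [Fact p.Prime] (M : Ideal Cfsg.AlgInt) (hM : Cfsg.IsPModular p M) (P : Sylow p G) (hab : IsMulCommutative P) (hP1 : Nat.card P ≠ 1) (hCN : (Subgroup.centralizer ((P : Subgroup G) : Set G)).relIndex (Subgroup.normalizer ((P : Subgroup G) : Set G)) = 3) (hcyc : ∃ g : G, g ∈ Subgroup.normalizer ((P : Subgroup G) : Set G) ∧ Subgroup.centralizer ((P : Subgroup G) : Set G) ⊔ Subgroup.zpowers g = Subgroup.normalizer ((P : Subgroup G) : Set G)) (hm2 : 3 + 1 < Nat.card P) (hfrob : ∀ y : G, y ∈ (P : Subgroup G) → y ≠ 1 → Subgroup.centralizer ({y} : Set G) ⊓ Subgroup.normalizer ((P : Subgroup G) : Set G) = Subgroup.centralizer ((P : Subgroup G) : Set G)) : ∃ (X Y : Set (Cfsg.IrrCharacter G)), Cfsg.principalBlock M G = X ∪ Y ∧ Disjoint X Y ∧ Nat.card X = 3 ∧ Nat.card Y = (Nat.card P - 1) / 3 ∧ (∃ χ₁ ∈ X, (χ₁ : G → ℂ) = fun _ => 1) ∧ ∃ (a : Cfsg.IrrCharacter G → ℤ) (δ : ℤ) (ζ : (↥(P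 : Subgroup G) →* ℂˣ) → Cfsg.IrrCharacter G), (δ = 1 ∨ δ = -1) ∧ (∀ χ ∈ X, (a χ = 1 ∨ a χ = -1) ∧ ∀ z y : G, Cfsg.IsPPart p z y → y ∈ (P : Subgroup G) → y ≠ 1 → (χ : G → ℂ) z = (a χ : ℂ)) ∧ (∀ ψ : ↥(P : Subgroup G) →* ℂˣ, ψ ≠ 1 → ζ ψ ∈ Y) ∧ (∀ η ∈ Y, ∃ ψ : ↥(P : Subgroup G) →* ℂˣ, ψ ≠ 1 ∧ ζ ψ = η) ∧ (∀ ψ ψ' : ↥(P : Subgroup G) →* ℂˣ, ψ ≠ 1 → (∃ n : G, n ∈ Subgroup.normalizer ((P : Subgroup G) : Set G) ∧ ∀ w w' : ↥(P : Subgroup G), (w' : G) = n * w * n⁻¹ → ψ' w' = ψ w) → ζ ψ' = ζ ψ) ∧ (∀ ψ : ↥(P : Subgroup G) →* ℂˣ, ψ ≠ 1 → ∀ (z : G) (y : ↥(P : Subgroup G)), Cfsg.IsPPart p z (y : G) → (y : G) ≠ 1 → (ζ ψ : G → ℂ) z = (δ : ℂ) * ∑ᶠ ψ' ∈ {ψ' : ↥(P : Subgroup G) →* ℂˣ | ∃ n : G, n ∈ Subgroup.normalizer ((P : Subgroup G) : Set G) ∧ ∀ w w' : ↥(P : Subgroup G), (w' : G) = n * w * n⁻¹ → ψ' w' = ψ w}, ((ψ' y : ℂˣ) : ℂ)) ∧ ((∃ t : G, orderOf t = 2 ∧ ∀ K : Subgroup G, K.Normal → t ∈ K → K = ⊤) → Nat.card {χ : Cfsg.IrrCharacter G // χ ∈ X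 ∧ (χ : G → ℂ) ≠ (fun _ => 1) ∧ a χ = -1} + (if δ = 1 then 1 else 0) = 2 ∧ ∀ η ∈ Y, IsSquare (Cfsg.charDegree (η : G → ℂ) * ∏ᶠ χ ∈ {χ : Cfsg.IrrCharacter G | χ ∈ X ∧ (χ : G → ℂ) ≠ fun _ => 1}, Cfsg.charDegree (χ : G → ℂ))) := by
  classical
  have hab' : IsMulCommutative (P : Subgroup G) := hab
  have := Fintype.ofFinite G
  obtain ⟨s, X, Y, -, hB, hXY, -, hY, ⟨χ₁, hχ₁, e₁⟩, a, d, δ, ζ, hδ, ha, hζY, hζs, hζc, hζv, hnorm,
    hreg, hrel⟩ := S4709.result p M hM P hab hP1 3 (by norm_num) hm2 hCN hcyc hfrob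
  obtain rfl : χ₁ = IrrCharacter.triv G := Subtype.ext e₁
  change 3 + 1 < Nat.card (P : Subgroup G) at hm2
  obtain ⟨r, hr⟩ := three_dvd hfrob hCN
  have hr1 : (Nat.card P - 1) / 3 = r := by
    change (Nat.card (P : Subgroup G) - 1) / 3 = r
    omega
  have hr2 : ((Nat.card P : ℤ) - 1) / (3 : ℕ) = r := by
    change ((Nat.card (P : Subgroup G) : ℤ) - 1) / 3 = r
    omega
  have : Nontrivial (P : Subgroup G) := Finite.one_lt_card_iff_nontrivial.1 (by omega)
  obtain ⟨y₀, hy₀⟩ := exists_ne (1 : (P : Subgroup G))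
  have ha1 : a (IrrCharacter.triv G) = 1 := by
    have := (ha _ hχ₁).2 y₀ y₀ (isPPart_iff.2 (pPart_eq_self_iff.2
      (exists_orderOf_eq_pow_of_mem P.isPGroup' y₀.2)).symm) y₀.2 fun e => hy₀ (Subtype.ext e)
    rw [IrrCharacter.triv_apply] at this
    exact_mod_cast this.symm
  have hsum : ∀ f : IrrCharacter G → ℂ, ∑ χ ∈ irrFinset (principalBlock M G), f χ =
      ∑ χ ∈ irrFinset X, f χ + ∑ χ ∈ irrFinset Y, f χ := fun f => by
    rw [← Finset.sum_union (Finset.disjoint_left.2 fun χ h h' =>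
      Set.disjoint_left.1 hXY (mem_irrFinset.1 h) (mem_irrFinset.1 h'))]
    exact Finset.sum_congr (Finset.ext fun χ => by simp [hB]) fun _ _ => rfl
  simp only [finsum_mem_irr, hr1, hr2] at hnorm hrel hY
  set X' := (irrFinset X).erase (IrrCharacter.triv G) with hX'
  have ht := mem_irrFinset.2 hχ₁
  simp only [← Finset.add_sum_erase _ _ ht, ← hX', ha1, IrrCharacter.triv_apply] at hnorm hrel
  have hnn : 0 ≤ ∑ χ ∈ X', a χ ^ 2 := Finset.sum_nonneg fun _ _ => sq_nonneg _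
  have hp1 : ¬ p ∣ orderOf (1 : G) := by simpa using hM.1.ne_one
  obtain ⟨δ, ζ, hδ, hζY, hζs, hζc, hζv, hnorm, hrel⟩ : ∃ (δ : ℤ)
      (ζ : ((P : Subgroup G) →* ℂˣ) → IrrCharacter G), (δ = 1 ∨ δ = -1) ∧
      (∀ ψ, ψ ≠ 1 → ζ ψ ∈ Y) ∧ (∀ η ∈ Y, ∃ ψ, ψ ≠ 1 ∧ ζ ψ = η) ∧
      (∀ ψ ψ', ψ ≠ 1 → ψ' ∈ dualOrbit _ ψ → ζ ψ' = ζ ψ) ∧
      (∀ ψ, ψ ≠ 1 → ∀ (z : G) (y : (P : Subgroup G)), IsPPart p z (y : G) → (y : G) ≠ 1 →
        (ζ ψ).1 z = δ * ∑ᶠ ψ' ∈ dualOrbit _ ψ, (ψ' y : ℂ)) ∧ ∑ χ ∈ X', a χ ^ 2 = 2 ∧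
      ∀ η ∈ Y, ∀ g, ¬ p ∣ orderOf g → -δ * η.1 g + (1 + ∑ χ ∈ X', a χ * χ.1 g) = 0 := by
    by_cases hd : d = 0
    · subst hd
      refine ⟨δ, ζ, hδ, hζY, hζs, hζc, fun ψ h z y h1 h2 =>
        (hζv ψ h z y h1 h2).trans (by rw [Int.cast_zero, zero_add]; rfl),
        by rcases hδ with rfl | rfl <;> omega, fun η h g hg => by simpa using hrel η h g hg⟩
    have h2 : (2 : ℤ) ≤ r := by omega
    obtain rfl : d = δ := by
      have := Int.one_le_abs (pow_ne_zero 2 hd)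
      rw [abs_of_nonneg (sq_nonneg d)] at this
      have h3 : d ^ 2 ≤ 3 := by
        push_cast at hnorm
        nlinarith [sq_nonneg (d - δ), mul_nonneg (sub_nonneg.2 h2) (sq_nonneg d)]
      have h4 : d ≤ 1 := by nlinarith
      have h5 : -1 ≤ d := by nlinarith
      rcases hδ with rfl | rfl <;> rcases (by omega : d = 1 ∨ d = -1) with rfl | rfl <;> omega
    have hd2 : d ^ 2 = 1 := by rcases hδ with rfl | rfl <;> rfl
    rw [hd2, sub_self] at hnorm
    obtain ⟨η, hη⟩ : Y.Nonempty := Set.nonempty_coe_sort.1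
      (Nat.card_pos_iff.1 (by omega : 0 < Nat.card Y)).1
    obtain rfl : r = 2 := by
      rcases (by omega : r = 2 ∨ r = 3 ∨ r = 4) with rfl | rfl | rfl
      · rfl
      · obtain ⟨k, hk⟩ := IsPGroup.iff_card.1 P.isPGroup'
        have h3 : p ^ k = 10 := by omega
        have h4 := (Nat.prime_dvd_prime_iff_eq Nat.prime_two hM.1).1
          (Nat.prime_two.dvd_of_dvd_pow (h3 ▸ by norm_num : 2 ∣ p ^ k))
        have h5 := (Nat.prime_dvd_prime_iff_eq Nat.prime_five hM.1).1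
          (Nat.prime_five.dvd_of_dvd_pow (h3 ▸ by norm_num : 5 ∣ p ^ k))
        omega
      · have h3 := hrel η hη 1 hp1
        rw [Finset.sum_eq_zero fun χ hχ => by
          rw [pow_eq_zero_iff two_ne_zero |>.1 ((Finset.sum_eq_zero_iff_of_nonneg
            fun _ _ => sq_nonneg _).1 (show ∑ χ ∈ X', a χ ^ 2 = 0 by omega) χ hχ)]
          simp, η.one_eq_charDegree] at h3
        have h4 : 3 * d * charDegree η.1 + 1 = 0 := by
          apply Int.cast_injective (α := ℂ)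
          push_cast at h3 ⊢
          linear_combination h3
        rcases hδ with rfl | rfl <;> omega
    obtain ⟨η₁, η₂, hne, e⟩ := Set.ncard_eq_two.1 (show Y.ncard = 2 from hY)
    have m1 : η₁ ∈ Y := by simp [e]
    have m2 : η₂ ∈ Y := by simp [e]
    have hs : ∀ (z : G) (y : (P : Subgroup G)), IsPPart p z (y : G) → (y : G) ≠ 1 →
        η₁.1 z + η₂.1 z = d := fun z y h1 h2 => by
      have h3 := isPBlock_principalBlock.sum_mul_conj_eq_zero hM (g := z) (h := 1) fun h =>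
        not_isConj_pPart_of_regular_singular hp1
          (pPart_ne_one_iff.1 (isPPart_iff.1 h1 ▸ h2)) h.symm
      rw [hsum, show irrFinset Y = {η₁, η₂} from Finset.ext fun _ => by simp [e],
        Finset.sum_pair hne, ← Finset.add_sum_erase _ _ ht, Finset.sum_congr rfl fun χ hχ => by
          rw [(ha χ (mem_irrFinset.1 (Finset.mem_erase.1 hχ).2)).2 z y h1 y.2 h2,
            χ.one_eq_charDegree, map_natCast, ← χ.one_eq_charDegree],
        hreg _ m2 _ m1 1 hp1, η₁.one_eq_charDegree, map_natCast, ← η₁.one_eq_charDegree] at h3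
      have h4 := hrel η₁ m1 1 hp1
      simp only [IrrCharacter.triv_apply, map_one] at h3
      push_cast at h4
      refine mul_left_cancel₀ η₁.one_ne_zero ?_
      linear_combination h3 - h4
    refine ⟨-d, fun ψ => if ζ ψ = η₁ then η₂ else η₁, by omega,
      fun ψ _ => by beta_reduce; split_ifs <;> simp [e],
      fun η hη => ?_, fun ψ ψ' h h' => by simp only [hζc ψ ψ' h h'], fun ψ h z y h1 h2 => ?_, by omega,
      fun η h g hg => ?_⟩
    · rcases (by simpa [e] using hη : η = η₁ ∨ η = η₂) with rfl | rfl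
      · obtain ⟨ψ, h1, h2⟩ := hζs _ m2
        exact ⟨ψ, h1, if_neg (h2 ▸ hne.symm)⟩
      · obtain ⟨ψ, h1, h2⟩ := hζs _ m1
        exact ⟨ψ, h1, if_pos h2⟩
    · have h3 := hζv ψ h z y h1 h2
      have h4 := hs z y h1 h2
      change _ = _ + _ * ∑ᶠ ψ' ∈ dualOrbit _ ψ, _ at h3
      push_cast
      split_ifs with h5
      · rw [h5] at h3
        linear_combination h4 - h3
      · rw [(by simpa [e, h5] using hζY ψ h : ζ ψ = η₂)] at h3
        linear_combination h4 - h3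
    · have := hrel η h g hg
      push_cast at this ⊢
      linear_combination this
  have hX'X : ∀ χ ∈ X', χ ∈ X := fun χ h => mem_irrFinset.1 (Finset.mem_erase.1 h).2
  obtain ⟨u, hu, v, hv, huv, s1, s2, s3, s4⟩ := exists_of_sum_sq_eq_two (B := X') (w := a)
    (by simpa only [sq] using hnorm)
  have hXe : X' = {u, v} := Finset.ext fun χ => ⟨fun h => by_contra fun h' => by
    simp only [Finset.mem_insert, Finset.mem_singleton, not_or] at h'
    exact (ha χ (hX'X χ h)).1 (s3 χ h h'.1 h'.2), fun h => by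
    rcases (by simpa using h : χ = u ∨ χ = v) with rfl | rfl <;> assumption⟩
  have htr : ∀ χ : IrrCharacter G, (χ : G → ℂ) = (fun _ => 1) ↔ χ = IrrCharacter.triv G :=
    fun χ => ⟨fun h => Subtype.ext h, fun h => h ▸ rfl⟩
  have hmem : ∀ χ, (χ ∈ X ∧ χ ≠ IrrCharacter.triv G) ↔ χ = u ∨ χ = v := fun χ => by
    simpa [hX', and_comm] using Finset.ext_iff.1 hXe χ
  refine ⟨X, Y, hB, hXY, ?_, hr1 ▸ hY, ⟨_, hχ₁, rfl⟩, a, δ, ζ, hδ, fun χ hχ => ⟨?_, (ha χ hχ).2⟩, hζY,
    hζs, hζc, hζv, fun ⟨t, ht2, hK⟩ => ?_⟩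
  · rw [← card_irrFinset, ← Finset.card_erase_add_one ht, ← hX', hXe, Finset.card_pair huv]
  · by_cases h : χ = IrrCharacter.triv G
    · exact Or.inl (h ▸ ha1)
    · rcases (hmem χ).1 ⟨hχ, h⟩ with rfl | rfl <;> assumption
  have htt := mul_self_eq_one_of_orderOf_two ht2
  obtain ⟨ψ, hψ, hψt⟩ := exists_hom hfrob hCN hm2 hcyc htt
  have hδ2 : (δ : ℂ) ^ 2 = 1 := by rcases hδ with rfl | rfl <;> norm_num
  have hu2 : (a u : ℂ) ^ 2 = 1 := by rcases s1 with e | e <;> rw [e] <;> norm_num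
  have hv2 : (a v : ℂ) ^ 2 = 1 := by rcases s2 with e | e <;> rw [e] <;> norm_num
  have hΘ : ∀ g : G, (∀ y ∈ (P : Subgroup G), y ≠ 1 → IsConj (pPart p g) y →
      y ∈ Subgroup.closure {x | x ∈ (P : Subgroup G) ∧ IsConj t x}) →
      1 + (-δ : ℤ) * (ζ ψ).1 g + a u * u.1 g + a v * v.1 g = 0 := fun g hg => by
    by_cases h : p ∣ orderOf g
    swap
    · have := hrel _ (hζY ψ hψ) g h
      rw [hXe, Finset.sum_pair huv] at this
      push_cast
      linear_combination this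
    obtain ⟨c, hc⟩ := exists_conj_mem_sylow P (exists_orderOf_pPart (p := p) g)
    have h1 : c * pPart p g * c⁻¹ ≠ 1 := fun e => pPart_ne_one_iff.2 h (conj_eq_one_iff.1 e)
    have h2 : IsPPart p (c * g * c⁻¹) (c * pPart p g * c⁻¹) := isPPart_iff.2 (pPart_conj p g c).symm
    have h3 : ∀ ψ' ∈ dualOrbit _ ψ, ψ' ⟨_, hc⟩ = 1 := by
      rintro ψ' ⟨n, hn, e⟩
      have h4 : Subgroup.closure {x | x ∈ (P : Subgroup G) ∧ IsConj t x} ≤
          ψ'.ker.map (P : Subgroup G).subtype := (Subgroup.closure_le _).2 fun x hx =>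
        ⟨⟨x, hx.1⟩, (e ⟨n⁻¹ * x * n⁻¹⁻¹, (Subgroup.mem_normalizer_iff.1 (Subgroup.inv_mem _ hn) x).1
          hx.1⟩ ⟨x, hx.1⟩ (by simp [mul_assoc])).trans
          (hψt _ (hx.2.trans (isConj_iff.2 ⟨n⁻¹, rfl⟩))), rfl⟩
      obtain ⟨y, hy, e'⟩ := h4 (hg _ hc h1 (isConj_iff.2 ⟨c, rfl⟩))
      rwa [show y = ⟨_, hc⟩ from Subtype.ext e'] at hy
    rw [← (ζ ψ).isClassFunction g c, ← u.isClassFunction g c, ← v.isClassFunction g c,
      hζv ψ hψ _ ⟨_, hc⟩ h2 h1, (ha u (hX'X u hu)).2 _ _ h2 hc h1, (ha v (hX'X v hv)).2 _ _ h2 hc h1,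
      finsum_mem_congr rfl fun ψ' h => by rw [h3 ψ' h, Units.val_one],
      finsum_mem_eq_finite_toFinset_sum _ (Set.toFinite _), Finset.sum_const,
      ← Set.ncard_eq_toFinset_card, ← Nat.card_coe_set_eq, card_dualOrbit hfrob hψ, hCN]
    push_cast
    linear_combination hu2 + hv2 - 3 * hδ2
  have k1 := hΘ 1 fun y _ h1 h => absurd (by simpa using h.symm) h1
  have k2 := hΘ t fun y hy h1 h => Subgroup.subset_closure ⟨hy, by
    have h2 : p ∣ 2 := ht2 ▸ pPart_ne_one_iff.1 fun e => h1 (by simpa [e] using h.symm)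
    rwa [pPart_eq_self_iff.2 ⟨1, by
      rw [ht2, pow_one, (Nat.prime_dvd_prime_iff_eq hM.1 Nat.prime_two).1 h2]⟩] at h⟩
  have k3 : ∑ s : G with IsConj t s, ∑ s' : G with IsConj t s', ((IrrCharacter.triv G).1 (s * s') +
      (-δ : ℤ) * (ζ ψ).1 (s * s') + a u * u.1 (s * s') + a v * v.1 (s * s')) = 0 :=
    Finset.sum_eq_zero fun s hs => Finset.sum_eq_zero fun s' hs' => hΘ _ fun y hy h1 h => by
      obtain ⟨a, ha, b, hb, h2, h3, rfl⟩ := exists_mul_eq hfrob hCN htt (Finset.mem_filter.1 hs).2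
        (Finset.mem_filter.1 hs').2 hy h1 h
      exact Subgroup.mul_mem _ (Subgroup.subset_closure ⟨ha, h2⟩) (Subgroup.subset_closure ⟨hb, h3⟩)
  simp only [Finset.sum_add_distrib, ← Finset.mul_sum, IrrCharacter.sum_sum_isConj] at k3
  have hval : ∀ χ : IrrCharacter G, χ ≠ IrrCharacter.triv G →
      ∃ n : ℤ, χ.1 t = n ∧ n ≠ charDegree χ.1 := fun χ h => by
    obtain ⟨n, hn, -⟩ := χ.exists_int_apply_of_mul_self htt
    refine ⟨n, hn, fun e => h (χ.charKer_eq_top_iff.1 (hK _ χ.isCharacter.charKer_normal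
      (χ.mem_charKer.2 ?_)))⟩
    rw [hn, e, χ.one_eq_charDegree, Int.cast_natCast]
  obtain ⟨x, x1, x2⟩ := hval (ζ ψ) fun e => Set.disjoint_left.1 hXY hχ₁ (e ▸ hζY ψ hψ)
  obtain ⟨y, y1, y2⟩ := hval u (Finset.mem_erase.1 hu).1
  obtain ⟨z, z1, z2⟩ := hval v (Finset.mem_erase.1 hv).1
  simp only [IrrCharacter.one_eq_charDegree] at k1
  simp only [x1, y1, z1, IrrCharacter.triv_apply, IrrCharacter.charDegree_triv] at k2 k3
  obtain ⟨f1, f2⟩ := arith (ε₁ := -δ) (by omega) s1 s2 (ζ ψ).charDegree_pos u.charDegree_pos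
    v.charDegree_pos x2 y2 z2 (by exact_mod_cast k1) (by exact_mod_cast k2) (by
      have i0 : ((Subgroup.centralizer ({t} : Set G)).index : ℂ) ≠ 0 :=
        Nat.cast_ne_zero.2 Subgroup.index_ne_zero_of_finite
      apply Complex.ofReal_injective
      refine mul_left_cancel₀ (pow_ne_zero 2 i0) ?_
      push_cast at k3 ⊢
      linear_combination k3)
  refine ⟨?_, fun η hη => ?_⟩
  · rw [Nat.card_eq_fintype_card, Fintype.card_subtype, show Finset.univ.filter _ =
      ({u, v} : Finset (IrrCharacter G)).filter (a · = -1) from Finset.ext fun χ => by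
        simp only [Finset.mem_filter, Finset.mem_univ, true_and, ne_eq, htr, ← and_assoc, hmem,
          Finset.mem_insert, Finset.mem_singleton], Finset.card_filter, Finset.sum_pair huv]
    rcases hδ with rfl | rfl <;> rcases s1 with e1 | e1 <;> rcases s2 with e2 | e2 <;>
      simp [e1, e2] at f1 ⊢
  · rw [show {χ : IrrCharacter G | χ ∈ X ∧ χ.1 ≠ fun _ => 1} = {u, v} from Set.ext fun χ => by
      simp only [Set.mem_ofPred_eq, ne_eq, htr, hmem, Set.mem_insert_iff, Set.mem_singleton_iff],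
      finprod_mem_pair huv, charDegree_congr (hreg η hη _ (hζY ψ hψ) 1 hp1), ← mul_assoc]
    exact f2

end Cfsg.Agent.S4721
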