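import Cfsg.Statements.S4705
import Cfsg.Agent.Lin.Perfect
import Cfsg.Agent.Blk.PrinBrauer

set_option autoImplicit false
open Cfsg

namespace Cfsg.Agent.S4705

open scoped ComplexConjugate

universe u
set_option linter.unusedSectionVars false

section
variable {G : Type u} [Group G] [Fintype G] {p : ℕ} [hp : Fact p.Prime] {P : Sylow p G}

theorem alt_formula (F : CenFrame p P) (he : F.e = 2) (h5 : 5 < p) {ζ : IrrCharacter G}
    (hf : ∀ g, ζ.1 g = ζ.1 1 → g = 1) (hd : charDegree ζ.1 + 2 = p) {k : ℕ}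
    (hk : k.Coprime (Nat.card G)) (hkz : ∀ z ∈ Subgroup.center G, z ^ k = z ^ 2) {g : G}
    (hg : ¬ p ∣ orderOf g) : ζ.1 g ^ 2 - ζ.1 (g * g) = ((p : ℂ) - 3) * ζ.1 (g ^ k) := by
  classical
  obtain ⟨θ, hθ⟩ := ζ.exists_overCen
  have hker : ∀ η : IrrCharacter G, (∀ g, η.1 g = η.1 1 → g = 1) →
      ¬ (P : Subgroup G) ≤ charKer η.1 := fun η h h' =>
    F.nn ((le_bot_iff.1 (η.charKer_eq_bot_iff.2 h ▸ h')).symm ▸ inferInstance)
  obtain ⟨E, hδ, l, hl, rfl⟩ := F.exists_excFam_pos (by omega) ζ (by omega) (hker ζ hf) hθ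
  obtain ⟨E', hδ', l', hl', hE'⟩ := F.exists_excFam_pos (by omega) ((E.ψ l).powConj k hk)
    (by rw [IrrCharacter.charDegree_powConj]; omega) (hker _ fun g hg =>
      (powCoprime hk.symm).injective (by simpa using hf (g ^ k) (by simpa using hg)))
    (hθ.powConj hkz)
  have hc := card_unitsHom_of_card_prime F.card
  have : Finite ((P : Subgroup G) →* ℂˣ) := Nat.finite_of_card_ne_zero (hc.trans_ne hp.out.ne_zero)
  have := Fintype.ofFinite ((P : Subgroup G) →* ℂˣ)
  have := Fintype.ofFinite (P : Subgroup G)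
  have h2 : ¬ p ∣ 2 := fun h => by have := Nat.le_of_dvd two_pos h; omega
  have hl2 : l ^ 2 ≠ 1 := unitsHom_pow_ne_one_of_card_prime F.card hl h2
  set Λ : G → ℂ := fun g => ((E.ψ l).1 g ^ 2 + -1 * (E.ψ l).1 (g * g)) / 2 with hΛ
  have hΛc : IsCharacter G Λ := (E.ψ l).isCharacter.sq_add_smul_apply_sq (by simp)
  have hj : ∀ x : ℂ, x ^ p = 1 → x * x ^ F.j = 1 := fun x hx => by
    have h1 := (he ▸ F.prim).eq_neg_one_of_two_right
    obtain ⟨c, hc⟩ := (ZMod.natCast_eq_zero_iff (F.j + 1) p).1 (by push_cast; rw [h1]; ring)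
    rw [← pow_succ', hc, pow_mul, hx, one_pow]
  have hval : ∀ v : (P : Subgroup G), v ≠ 1 → Λ v = F.osum (l ^ 2) v + 1 := fun v hv => by
    have h1 : v ^ 2 ≠ 1 := fun h => h2 (by
      rw [← orderOf_eq_of_card_prime F.card v.2 fun h => hv (Subtype.ext h), Subgroup.orderOf_coe]
      exact orderOf_dvd_of_pow_eq_one h)
    have h3 := E.val l hl _ h1
    have h4 := hj (l v) (by
      rw [← Units.val_pow_eq_pow_val, ← MonoidHom.pow_apply, F.hom_pow_card]; rfl)
    rw [Subgroup.coe_pow, pow_two] at h3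
    simp only [hΛ, E.val l hl v hv, h3, hδ, AutFrame.osum, he, Finset.sum_range_succ,
      Finset.sum_range_zero, map_pow, MonoidHom.pow_apply, Units.val_pow_eq_pow_val]
    push_cast
    linear_combination h4
  have hr : ∀ m, m ≠ 1 → (p : ℂ) * rmul P Λ m = Λ 1 - 3 + if F.Orb (l ^ 2) m then (p : ℂ) else 0 :=
    fun m hm => by
      have h1 := hΛc.card_mul_rmul P m
      have h3 := F.sum_osum_mul_conj hl2 m
      have h4 := sum_unitsHom_mul_conj 1 m
      rw [if_neg hm.symm] at h4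
      rw [← Finset.add_sum_erase _ _ (Finset.mem_univ (1 : (P : Subgroup G)))] at h1 h3 h4
      rw [Finset.sum_congr rfl fun v hv => by
        rw [hval v (Finset.ne_of_mem_erase hv), add_mul], Finset.sum_add_distrib, F.card] at h1
      simp only [OneMemClass.coe_one, map_one, Units.val_one, mul_one, MonoidHom.one_apply,
        AutFrame.osum_one, he, Nat.cast_ofNat] at h1 h3 h4
      linear_combination h1 + h3 + h4
  set S := ((Finset.univ.erase 1).image E'.ψ).erase (E'.ψ (l ^ 2)) with hS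
  have hcard : 2 * S.card + 3 = p := by
    have h1 := E'.sum_comp fun _ => 1
    simp only [Finset.sum_const, smul_eq_mul, mul_one, he,
      Finset.card_erase_of_mem (Finset.mem_univ _), Finset.card_univ,
      ← Nat.card_eq_fintype_card, hc] at h1
    rw [hS, Finset.card_erase_of_mem (Finset.mem_image_of_mem _ (by simpa using hl2))]
    omega
  have hmem : ∀ ξ ∈ S, ∃ m, m ≠ 1 ∧ ¬ F.Orb (l ^ 2) m ∧ E'.ψ m = ξ := fun ξ hξ => by
    obtain ⟨h1, h3⟩ := Finset.mem_erase.1 hξ
    obtain ⟨m, hm, rfl⟩ := Finset.mem_image.1 h3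
    have hm1 := Finset.ne_of_mem_erase hm
    exact ⟨m, hm1, fun h => h1 ((E'.eq_iff hl2 hm1).2 h).symm, rfl⟩
  have hreg : ∀ g, ¬ p ∣ orderOf g → ∑ ξ ∈ S, ξ.1 g = S.card * (E.ψ l).1 (g ^ k) := fun g hg => by
    rw [Finset.sum_congr rfl (g := fun _ => (E.ψ l).1 (g ^ k)), Finset.sum_const, nsmul_eq_mul]
    intro ξ hξ
    obtain ⟨m, hm, -, rfl⟩ := hmem ξ hξ
    rw [E'.reg m l' hm hl' g hg, hE', IrrCharacter.powConj_apply]
  have hcC : (2 * S.card + 3 : ℂ) = p := by exact_mod_cast hcard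
  have hdC : (charDegree (E.ψ l).1 + 2 : ℂ) = p := by exact_mod_cast hd
  have h6 := hΛc.eq_sum_of_charDegree_le S (fun ξ hξ => ?_) (le_of_eq ?_) g
  · rw [hreg g hg] at h6
    simp only [hΛ] at h6
    linear_combination 2 * h6 + (E.ψ l).1 (g ^ k) * hcC
  · obtain ⟨m, hm, hlm, rfl⟩ := hmem ξ hξ
    have h1 := E'.inner Λ hΛc (hθ.sq (-1)) m (l ^ 2) hm hl2
    have h3 := hr m hm
    have h4 := hr _ hl2
    rw [if_neg hlm] at h3
    rw [if_pos (F.orb_refl _)] at h4
    have hp0 : (p : ℂ) ≠ 0 := by exact_mod_cast hp.out.ne_zero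
    have h7 : (rmul P Λ (l ^ 2) : ℂ) = rmul P Λ m + 1 :=
      mul_left_cancel₀ hp0 (by linear_combination h4 - h3)
    have h8 : rmul P Λ (l ^ 2) = rmul P Λ m + 1 := by exact_mod_cast h7
    refine (hΛc.cmult_ne_zero_iff (E'.ψ m).isCharacter).1 ?_
    rw [hδ'] at h1
    omega
  · refine charDegree_eq_of_one_eq ?_
    have h1 := hreg 1 (by rw [orderOf_one]; exact hp.out.not_dvd_one)
    simp only [IrrCharacter.one_eq_charDegree, one_pow] at h1
    simp only [hΛ, mul_one, IrrCharacter.one_eq_charDegree, Nat.cast_sum, h1]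
    linear_combination (charDegree (E.ψ l).1 : ℂ) / 2 * (hdC - hcC)

theorem eq_zero_or_eq_of_sq {a : ℕ → ℝ} {c : ℝ} (hc : 0 < c) (h0 : 0 ≤ a 0)
    (h : ∀ n, a n ^ 2 = c * a (n + 1)) {N : ℕ} (hN : 0 < N) (hp : a N = a 0) :
    a 0 = 0 ∨ a 0 = c := by
  have h1 : ∀ n, a n / c = (a 0 / c) ^ 2 ^ n := fun n => by
    induction n with
    | zero => simp
    | succ n ih => rw [pow_succ, pow_mul, ← ih, div_pow, h n]; field_simp
  have h2 := h1 N
  obtain ⟨m, hm⟩ : ∃ m, 2 ^ N = m + 2 := ⟨2 ^ N - 2, by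
    have := Nat.pow_le_pow_right two_pos hN; omega⟩
  rw [hp, hm, pow_succ] at h2
  by_cases h3 : a 0 = 0
  · exact Or.inl h3
  rw [eq_comm, mul_eq_right₀ (div_ne_zero h3 hc.ne'),
    pow_eq_one_iff_of_nonneg (div_nonneg h0 hc.le) (by omega), div_eq_one_iff_eq hc.ne'] at h2
  exact Or.inr h2

omit [Fintype G] in
theorem exists_pow_two_pow [Finite G] {w : G} (hw : ¬ 2 ∣ orderOf w) :
    ∃ N, 0 < N ∧ w ^ 2 ^ N = w :=
  ⟨_, Nat.totient_pos.2 (orderOf_pos w), by
    conv_rhs => rw [← pow_one w]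
    exact pow_eq_pow_iff_modEq.2 (Nat.ModEq.pow_totient (Nat.prime_two.coprime_iff_not_dvd.2 hw))⟩

/-- the data extracted from the alternating square -/
structure Cfg (P : Sylow p G) (ζ : IrrCharacter G) (k : ℕ) : Prop where
  h5 : 5 < p
  faith : ∀ g, ζ.1 g = ζ.1 1 → g = 1
  deg : charDegree ζ.1 + 2 = p
  odd : ∀ z ∈ Subgroup.center G, ¬ 2 ∣ orderOf z
  k_odd : ∀ g : G, ¬ 2 ∣ orderOf g → g ^ k = g ^ 2
  k_two : ∀ g : G, (∃ a, orderOf g = 2 ^ a) → g ^ k = g
  alt : ∀ g, ¬ p ∣ orderOf g → ζ.1 g ^ 2 - ζ.1 (g * g) = ((p : ℂ) - 3) * ζ.1 (g ^ k)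
  cen : ∀ g s : G, p ∣ orderOf g → ¬ p ∣ orderOf s → Commute g s → s ∈ Subgroup.center G
  reg : ∀ z ∈ Subgroup.center G, ¬ p ∣ orderOf z
  card : Nat.card G = Nat.card (Sylow p G) * (2 * (Nat.card (Subgroup.center G) * p))
  sing : ∑ g with p ∣ orderOf g, ζ.1 g * conj (ζ.1 g) =
    Nat.card (Sylow p G) * (Nat.card (Subgroup.center G) * (2 * p - 4))

namespace Cfg
variable {ζ : IrrCharacter G} {k : ℕ} (H : Cfg P ζ k)
include H

theorem one : ζ.1 1 = (p : ℂ) - 2 := by
  rw [ζ.one_eq_charDegree, ← H.deg]; push_cast; ring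

theorem not_dvd_of_two {g : G} {a : ℕ} (hg : g ^ 2 ^ a = 1) : ¬ p ∣ orderOf g := fun h => by
  have h1 := hp.out.dvd_of_dvd_pow (h.trans (orderOf_dvd_of_pow_eq_one hg))
  have := Nat.le_of_dvd two_pos h1
  have := H.h5
  omega

theorem invol {s : G} (hs : s * s = 1) (hs1 : s ≠ 1) : ζ.1 s = -1 := by
  have h1 := H.alt s (H.not_dvd_of_two (a := 1) (by rwa [pow_one, pow_two]))
  rw [H.k_two s ⟨1, by rw [pow_one, orderOf_eq_prime (by rwa [pow_two]) hs1]⟩, hs, H.one] at h1
  have h2 : (ζ.1 s - ζ.1 1) * (ζ.1 s + 1) = 0 := by rw [H.one]; linear_combination h1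
  exact eq_neg_of_add_eq_zero_left ((mul_eq_zero.1 h2).resolve_left fun h =>
    hs1 (H.faith s (sub_eq_zero.1 h)))

theorem sq_eq_one {s : G} (hs : s ^ 4 = 1) : s * s = 1 := by
  by_contra h0
  have key : ∀ s : G, s ^ 4 = 1 → s * s ≠ 1 → ζ.1 s ^ 2 + 1 = ((p : ℂ) - 3) * ζ.1 s :=
    fun s hs h0 => by
      have h1 := H.alt s (H.not_dvd_of_two (a := 2) hs)
      obtain ⟨a, -, ha⟩ := (Nat.dvd_prime_pow Nat.prime_two).1
        (orderOf_dvd_of_pow_eq_one (show s ^ 2 ^ 2 = 1 from hs))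
      rw [H.k_two s ⟨a, ha⟩, H.invol (by rw [← hs]; simp [pow_succ, mul_assoc]) h0] at h1
      linear_combination h1
  have h1 := key s hs h0
  have h2 := key s⁻¹ (by rw [inv_pow, hs, inv_one]) (by rwa [← mul_inv_rev, inv_ne_one])
  have h5 : (6 : ℝ) ≤ p := by exact_mod_cast H.h5
  have h3 : ζ.1 s⁻¹ = ζ.1 s := by
    by_contra h
    have h4 : ζ.1 s⁻¹ + ζ.1 s = p - 3 :=
      mul_left_cancel₀ (sub_ne_zero.2 h) (by linear_combination h2 - h1)
    have h6 : ζ.1 s * ζ.1 s⁻¹ = 1 := by linear_combination ζ.1 s * h4 - h1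
    rw [ζ.apply_inv] at h4 h6
    rw [Complex.mul_conj, Complex.normSq_apply] at h6
    have h7 := congrArg Complex.re h4
    have h8 := congrArg Complex.re h6
    simp at h7 h8
    nlinarith [mul_self_nonneg (ζ.1 s).im]
  have h4 : 2 ∣ Nat.card G :=
    (orderOf_eq_prime (p := 2) (x := s * s) (by rw [← hs]; simp [pow_succ, mul_assoc]) h0) ▸ orderOf_dvd_natCard _
  obtain ⟨a, ha⟩ := exists_int_of_isIntegral_of_rat (ζ.isIntegral s)
    (ζ.isCharacter.isGeneralizedCharacter.exists_rat_of_forall_pow fun n hn => by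
      have h6 : n % 2 = 1 := Nat.odd_iff.1 (Nat.coprime_two_right.1 (hn.coprime_dvd_right h4))
      rw [← Nat.mod_add_div n 4, pow_add, pow_mul, hs, one_pow, mul_one]
      rcases (by omega : n % 4 = 1 ∨ n % 4 = 3) with h | h <;> rw [h]
      · rw [pow_one]
      · rw [← h3, eq_inv_of_mul_eq_one_left (show s ^ 3 * s = 1 by rw [← hs, ← pow_succ])])
  rw [ha] at h1
  have h6 : a ^ 2 + 1 = (p - 3) * a := by exact_mod_cast h1
  have h7 : a ∣ 1 := ⟨p - 3 - a, by linear_combination h6⟩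
  have h8 := H.h5
  rcases Int.isUnit_iff.1 (isUnit_of_dvd_one h7) with rfl | rfl <;> omega

theorem odd_zero {w : G} (hw : ¬ 2 ∣ orderOf w) (hwp : ¬ p ∣ orderOf w)
    (hz : w ∉ Subgroup.center G) : ζ.1 w = 0 := by
  obtain ⟨N, hN, h⟩ := exists_pow_two_pow hw
  have hd : (0 : ℝ) < charDegree ζ.1 := by exact_mod_cast ζ.charDegree_pos
  rcases eq_zero_or_eq_of_sq (a := fun n => ‖ζ.1 (w ^ 2 ^ n)‖) hd (norm_nonneg _) (fun n => by
    have h1 := H.alt (w ^ 2 ^ n) fun h => hwp (h.trans (orderOf_pow_dvd _))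
    rw [H.k_odd _ fun h => hw (h.trans (orderOf_pow_dvd _)), ← pow_two, ← pow_mul, ← pow_succ] at h1
    have h2 : ζ.1 (w ^ 2 ^ n) ^ 2 = ζ.1 1 * ζ.1 (w ^ 2 ^ (n + 1)) := by
      rw [H.one]; linear_combination h1
    rw [← norm_pow, h2, norm_mul, ζ.isCharacter.norm_one]) hN (by simp [h]) with h | h
  · simpa using h
  · exact absurd (ζ.isCharacter.charCenter_le_center_of_faithful (ζ.charKer_eq_bot_iff.2 H.faith)
      (ζ.mem_charCenter.2 (by simpa using h))) hz

theorem notMem_center {s : G} (hs : s * s = 1) (hs1 : s ≠ 1) : s ∉ Subgroup.center G := fun h =>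
  H.odd s h (by rw [orderOf_eq_prime (by rwa [pow_two]) hs1])

theorem mem_center_of_prime {s w : G} (hs : s * s = 1) (hs1 : s ≠ 1) (hsw : Commute s w) {r a : ℕ}
    (hr : r.Prime) (hr2 : r ≠ 2) (hw : orderOf w = r ^ a) : w ∈ Subgroup.center G := by
  classical
  by_contra hz
  have hwp : ¬ p ∣ orderOf w := fun h => H.notMem_center hs hs1
    (H.cen w s h (H.not_dvd_of_two (a := 1) (by rwa [pow_one, pow_two])) hsw.symm)
  have hw2 : ¬ 2 ∣ orderOf w := fun h => hr2
    ((Nat.prime_dvd_prime_iff_eq Nat.prime_two hr).1 (Nat.prime_two.dvd_of_dvd_pow (hw ▸ h))).symm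
  have hso : orderOf s = 2 := orderOf_eq_prime (by rwa [pow_two]) hs1
  have hzero : ∀ i, w ^ i ∉ Subgroup.center G → ζ.1 (w ^ i) = 0 := fun i hi =>
    H.odd_zero (fun h => hw2 (h.trans (orderOf_pow_dvd _)))
      (fun h => hwp (h.trans (orderOf_pow_dvd _))) hi
  obtain ⟨N, hN, h⟩ := exists_pow_two_pow hw2
  have h5 : (6 : ℝ) ≤ p := by exact_mod_cast H.h5
  have hnorm : ‖ζ.1 (s * w)‖ = p - 3 := by
    have hrec : ∀ n, ‖ζ.1 (s * w ^ 2 ^ n)‖ ^ 2 = (p - 3) * ‖ζ.1 (s * w ^ 2 ^ (n + 1))‖ := by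
      intro n
      have hc := hsw.pow_right (2 ^ n)
      have h1 := H.alt (s * w ^ 2 ^ n) fun h => by
        rcases (hp.out.dvd_mul).1 (h.trans hc.orderOf_mul_dvd_mul_orderOf) with h | h
        · exact H.not_dvd_of_two (a := 1) (by rwa [pow_one, pow_two]) h
        · exact hwp (h.trans (orderOf_pow_dvd _))
      rw [hc.mul_pow, H.k_two s ⟨1, hso⟩, H.k_odd _ fun h => hw2 (h.trans (orderOf_pow_dvd _)),
        ← pow_two, hc.mul_pow, pow_two s, hs, one_mul, ← pow_mul, ← pow_succ, hzero _ fun h' => ?_,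
        sub_zero] at h1
      · rw [← norm_pow, h1, norm_mul]
        congr 1
        rw [show (p : ℂ) - 3 = ((p - 3 : ℝ) : ℂ) by simp, Complex.norm_real,
          Real.norm_of_nonneg (by linarith)]
      · refine hz ?_
        have h2 : ∀ m, w ^ 2 ^ (N * m) = w := fun m => by
          induction m with
          | zero => simp
          | succ m ih => rw [mul_add_one, pow_add, pow_mul, ih, h]
        obtain ⟨c, hc⟩ := Nat.exists_eq_add_of_le (Nat.le_mul_of_pos_left (n + 1) hN)
        rw [← h2 (n + 1), hc, pow_add, pow_mul]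
        exact pow_mem h' _
    rcases eq_zero_or_eq_of_sq (a := fun n => ‖ζ.1 (s * w ^ 2 ^ n)‖) (c := p - 3) (by linarith)
      (norm_nonneg _) hrec hN (by simp [h]) with h | h
    · exfalso
      have h1 := ζ.isCharacter.isGeneralizedCharacter.prime_dvd_sub_of_pElement hr hsw.symm
        (k := a) (by rw [← hw, pow_orderOf_eq_one]) (a := 1) (by
          rw [← hsw.eq, H.invol hs hs1, show ζ.1 (s * w) = 0 by simpa using h]; simp)
      exact hr.not_dvd_one (by exact_mod_cast h1)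
    · simpa using h
  obtain ⟨α, β, hα, hβ, hαβ⟩ := ζ.isCharacter.exists_eigenvalues₂ hsw
  rw [hso] at hα
  let I := {i // α i = 1}
  have hsum : ∀ l, 2 * ∑ i : I, β i ^ l = ζ.1 (w ^ l) + ζ.1 (s * w ^ l) := fun l => by
    have h1 := hαβ 0 l
    have h2 := hαβ 1 l
    simp only [pow_zero, one_mul, pow_one] at h1 h2
    rw [h1, h2, ← Finset.sum_add_distrib, ← Finset.sum_subtype (Finset.univ.filter (α · = 1))
      (by simp) fun i => β i ^ l, Finset.sum_filter, Finset.mul_sum]
    refine Finset.sum_congr rfl fun i _ => ?_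
    rcases mul_self_eq_one_iff.1 ((pow_two _).symm.trans (hα i)) with h | h
    · simp [h, two_mul]
    · rw [if_neg (by rw [h]; norm_num), h]; ring
  have hI : 2 * Fintype.card I + 3 = p := by
    have h1 := hsum 0
    simp only [pow_zero, mul_one, Finset.sum_const, Finset.card_univ, nsmul_eq_mul, H.one,
      H.invol hs hs1] at h1
    have : (2 * Fintype.card I + 3 : ℂ) = p := by linear_combination h1
    exact_mod_cast this
  have hβn : ∀ i, ‖β i‖ = 1 := fun i => Complex.norm_eq_one_of_pow_eq_one (hβ i) (orderOf_pos w).ne'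
  have heq := eq_of_norm_sum_eq_card (ε := fun i : I => β i) (fun i => (hβn i).le) (by
    have h1 := congrArg norm (hsum 1)
    simp only [pow_one] at h1
    rw [show ζ.1 w = 0 by simpa using hzero 1 (by simpa using hz), zero_add, hnorm, norm_mul,
      Complex.norm_two] at h1
    have : (2 * Fintype.card I + 3 : ℝ) = p := by exact_mod_cast hI
    linarith)
  obtain ⟨i₀⟩ : Nonempty I := Fintype.card_pos_iff.1 (by have := H.h5; omega)
  set n := orderOf (w : G ⧸ Subgroup.center G) with hn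
  have hmem : ∀ i, w ^ i ∈ Subgroup.center G ↔ n ∣ i := fun i => by
    rw [hn, orderOf_dvd_iff_pow_eq_one, ← QuotientGroup.mk_pow, QuotientGroup.eq_one_iff]
  have hn3 : 3 ≤ n := by
    have h1 : n ≠ 1 := fun h => hz (by simpa using (hmem 1).2 h.dvd)
    have h2 : n ≠ 2 := fun h => hw2 (h ▸ orderOf_map_dvd (QuotientGroup.mk' _) w)
    have h3 : 0 < n := orderOf_pos _
    omega
  have hpow : ∀ i, β i ^ n = β i₀ ^ n := fun i => eq_of_norm_sum_eq_card (ε := fun i => β i ^ n)
    (fun i => by rw [norm_pow, hβn, one_pow]) (by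
      have h1 := hαβ 0 n
      simp only [pow_zero, one_mul] at h1
      rw [← h1, Fintype.card_fin]
      exact ζ.mem_charCenter.1 (ζ.center_le_charCenter ((hmem n).2 dvd_rfl))) i i₀
  have h0 : β i₀ ≠ 0 := norm_ne_zero_iff.1 (by rw [hβn]; exact one_ne_zero)
  have h1 : ∑ l ∈ Finset.range n, ζ.1 (w ^ l) / β i₀ ^ l = charDegree ζ.1 := by
    rw [Finset.sum_eq_single 0, pow_zero, pow_zero, div_one, ζ.one_eq_charDegree]
    · intro l hl hl0
      rw [hzero l (mt (hmem l).1 (Nat.not_dvd_of_pos_of_lt (by omega) (by simpa using hl))),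
        zero_div]
    · intro h; exact absurd (Finset.mem_range.2 (by omega)) h
  have h2 : ∑ l ∈ Finset.range n, ζ.1 (w ^ l) / β i₀ ^ l =
      n * (Finset.univ.filter fun i => β i = β i₀).card := by
    rw [Finset.sum_congr rfl (g := fun l => ∑ i, (β i / β i₀) ^ l) fun l _ => by
      have h1 := hαβ 0 l
      simp only [pow_zero, one_mul] at h1
      simp only [h1, Finset.sum_div, div_pow], Finset.sum_comm, Finset.card_filter, Nat.cast_sum,
      Finset.mul_sum]
    refine Finset.sum_congr rfl fun i _ => ?_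
    split_ifs with hi
    · simp [hi, h0]
    · rw [geom_sum_eq (by rwa [Ne, div_eq_one_iff_eq h0]), div_pow, hpow,
        div_self (pow_ne_zero _ h0)]
      simp
  have h3 : charDegree ζ.1 = n * (Finset.univ.filter fun i => β i = β i₀).card := by
    exact_mod_cast h1.symm.trans h2
  have h4 : Fintype.card I ≤ (Finset.univ.filter fun i => β i = β i₀).card := by
    rw [Fintype.card_subtype]
    exact Finset.card_le_card fun i hi => by
      simpa using heq ⟨i, by simpa using hi⟩ i₀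
  have h6 := Nat.mul_le_mul hn3 h4
  have := H.deg
  have := H.h5
  omega

theorem sq_eq_one_of_pow {a : ℕ} : ∀ {x : G}, x ^ 2 ^ a = 1 → x * x = 1 := by
  induction a with
  | zero => intro x h; rw [pow_zero, pow_one] at h; rw [h, mul_one]
  | succ a ih =>
    intro x h
    rw [pow_succ', pow_mul] at h
    exact H.sq_eq_one (by have := ih h; rwa [← pow_add] at this)

theorem sq_mem_center {s g : G} (hs : s * s = 1) (hs1 : s ≠ 1) (h : Commute s g) :
    g * g ∈ Subgroup.center G := by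
  by_contra h0
  have hn : orderOf ((g * g : G) : G ⧸ Subgroup.center G) ≠ 1 := by
    rwa [Ne, orderOf_eq_one_iff, QuotientGroup.eq_one_iff]
  obtain ⟨r, hr, hrn⟩ := Nat.exists_prime_and_dvd hn
  obtain ⟨a, m, hm, ham⟩ := Nat.exists_eq_pow_mul_and_not_dvd (orderOf_pos g).ne' r hr.ne_one
  have h1 : (g ^ m) ^ r ^ a = 1 := by rw [← pow_mul, mul_comm, ← ham, pow_orderOf_eq_one]
  refine hm (hrn.trans (orderOf_dvd_of_pow_eq_one ?_))
  rw [← QuotientGroup.mk_pow, QuotientGroup.eq_one_iff, (Commute.refl g).mul_pow]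
  by_cases hr2 : r = 2
  · subst hr2; rw [H.sq_eq_one_of_pow h1]; exact one_mem _
  · obtain ⟨b, -, hb⟩ := (Nat.dvd_prime_pow hr).1 (orderOf_dvd_of_pow_eq_one h1)
    have := H.mem_center_of_prime hs hs1 (h.pow_right m) hr hr2 hb
    exact mul_mem this this

theorem eq_zero {g : G} (hg : ¬ p ∣ orderOf g) (h : g * g ∉ Subgroup.center G) : ζ.1 g = 0 := by
  by_cases h2 : 2 ∣ orderOf g
  · obtain ⟨m, hm⟩ := h2
    have := orderOf_pos g
    refine absurd (H.sq_mem_center (s := g ^ m) ?_ ?_ ((Commute.refl g).pow_left m)) h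
    · rw [← pow_add, ← two_mul, ← hm, pow_orderOf_eq_one]
    · exact pow_ne_one_of_lt_orderOf (by omega) (by omega)
  · exact H.odd_zero h2 hg fun h' => h (mul_mem h' h')

theorem eq_one_of_mem_center {z : G} (hz : z ∈ Subgroup.center G) (h : z * z = 1) : z = 1 := by
  by_contra h1
  exact H.notMem_center h h1 hz

open Classical in
theorem sum_sq_mem {M : Type} [AddCommMonoid M] (f : G → M)
    (hf : ∀ z ∈ Subgroup.center G, ∀ g, f (z * g) = f g) :
    ∑ g with g * g ∈ Subgroup.center G, f g =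
      Nat.card (Subgroup.center G) • ∑ x with x * x = 1, f x := by
  have hsq : ∀ z ∈ Subgroup.center G, ∀ x : G, z * x * (z * x) = z * z * (x * x) := fun z hz x => by
    rw [mul_assoc, ← mul_assoc x, Subgroup.mem_center_iff.1 hz x]; group
  rw [Nat.card_eq_fintype_card, Fintype.card_subtype, ← Finset.sum_const,
    Finset.sum_congr rfl (g := fun z => ∑ x with x * x = 1, f (z * x)) fun z hz =>
      Finset.sum_congr rfl fun x _ => (hf z (by simpa using hz) x).symm, ← Finset.sum_product']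
  refine (Finset.sum_nbij (fun q : G × G => q.1 * q.2) (fun q hq => ?_) (fun q hq q' hq' h => ?_)
    (fun g hg => ?_) fun _ _ => rfl).symm
  · simp only [Finset.mem_product, Finset.mem_filter, Finset.mem_univ, true_and] at hq ⊢
    rw [hsq _ hq.1, hq.2, mul_one]
    exact mul_mem hq.1 hq.1
  · simp only [Finset.coe_product, Finset.coe_filter, Finset.mem_univ, true_and, Set.mem_prod,
      Set.mem_ofPred_eq] at hq hq' h
    have h1 := hsq _ hq.1 q.2
    rw [h, hsq _ hq'.1, hq.2, hq'.2, mul_one, mul_one] at h1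
    have h2 : q.1 = q'.1 := inv_mul_eq_one.1 (H.eq_one_of_mem_center (mul_mem (inv_mem hq.1) hq'.1)
      (by rw [hsq _ (inv_mem hq.1), h1]; group))
    exact Prod.ext h2 (mul_left_cancel (h2 ▸ h))
  · simp only [Finset.coe_filter, Finset.mem_univ, true_and, Set.mem_ofPred_eq] at hg
    obtain ⟨N, hN, h⟩ := exists_pow_two_pow (H.odd _ hg)
    obtain ⟨N, rfl⟩ := Nat.exists_eq_add_one_of_ne_zero hN.ne'
    have hz := pow_mem hg (2 ^ N)
    refine ⟨((g * g) ^ 2 ^ N, ((g * g) ^ 2 ^ N)⁻¹ * g), ?_, by simp⟩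
    simp only [Finset.coe_product, Finset.coe_filter, Finset.mem_univ, true_and, Set.mem_prod,
      Set.mem_ofPred_eq]
    refine ⟨hz, ?_⟩
    rw [hsq _ (inv_mem hz), ← mul_inv_rev, ← pow_add, ← mul_two, ← pow_succ, h, inv_mul_cancel]

open Classical in
theorem count : 4 * Nat.card (Sylow p G) =
    charDegree ζ.1 ^ 2 + ((Finset.univ.filter fun x : G => x * x = 1).erase 1).card := by
  obtain ⟨θ, hθ⟩ := ζ.exists_overCen
  have h1 := ζ.classInner_self
  have hG : (Nat.card G : ℂ) ≠ 0 := by exact_mod_cast Nat.card_pos.ne'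
  have hZ : (Nat.card (Subgroup.center G) : ℂ) ≠ 0 := by exact_mod_cast Nat.card_pos.ne'
  rw [classInner_def, inv_mul_eq_one₀ hG, ← Finset.sum_filter_add_sum_filter_not _
    (p ∣ orderOf ·), H.sing, ← Finset.sum_subset (s₁ := Finset.univ.filter fun g =>
      g * g ∈ Subgroup.center G) (fun g hg => ?_) (fun g hg hg' => ?_),
    H.sum_sq_mem _ fun z hz g => ?_, ← Finset.add_sum_erase _ _ (a := 1) (by simp),
    Finset.sum_congr rfl (g := fun _ => 1) fun x hx => ?_, H.card] at h1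
  · simp only [Finset.sum_const, nsmul_eq_mul, mul_one, ζ.one_eq_charDegree, map_natCast,
      Nat.cast_mul, Nat.cast_ofNat] at h1
    have : (4 * Nat.card (Sylow p G) : ℂ) = charDegree ζ.1 ^ 2 +
        ((Finset.univ.filter fun x : G => x * x = 1).erase 1).card :=
      mul_left_cancel₀ hZ (by linear_combination h1)
    exact_mod_cast this
  · simp only [Finset.mem_erase, Finset.mem_filter, Finset.mem_univ, true_and] at hx
    simp [H.invol hx.2 hx.1]
  · simpa using (hθ.mul hθ.cconj) ⟨z, hz⟩ g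
  · simp only [Finset.mem_filter, Finset.mem_univ, true_and] at hg ⊢
    intro h
    refine H.reg _ hg ((Nat.Coprime.dvd_mul_left ?_).1 (h.trans (orderOf_dvd_of_pow_eq_one
      (show g ^ (2 * orderOf (g * g)) = 1 by rw [pow_mul, pow_two, pow_orderOf_eq_one]))))
    exact (Nat.coprime_primes hp.out Nat.prime_two).2 (by have := H.h5; omega)
  · simp only [Finset.mem_filter, Finset.mem_univ, true_and] at hg hg'
    rw [H.eq_zero hg hg', zero_mul]

theorem card_centralizer {s : G} (hs : s * s = 1) (hs1 : s ≠ 1) : ∃ q, q ∣ p - 1 ∧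
    Nat.card (Subgroup.centralizer ({s} : Set G)) = Nat.card (Subgroup.center G) * q := by
  classical
  have hinv : ∀ x : G, x * x = 1 → x⁻¹ = x := fun x hx => inv_eq_of_mul_eq_one_right hx
  let S : Subgroup G :=
    { carrier := {x | x * x = 1 ∧ Commute s x}
      one_mem' := ⟨mul_one 1, Commute.one_right s⟩
      inv_mem' := fun {x} hx => by rwa [hinv x hx.1]
      mul_mem' := fun {x y} hx hy => ⟨by
        have h1 := H.sq_mem_center hs hs1 (hx.2.mul_right hy.2)
        refine H.eq_one_of_mem_center h1 ?_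
        have h2 := Subgroup.mem_center_iff.1 h1 x
        calc x * y * (x * y) * (x * y * (x * y)) = x * y * (x * y) * x * (y * x * y) := by group
          _ = (x * x) * (y * (x * (y * y) * x) * y) := by rw [← h2]; group
          _ = 1 := by rw [hy.1, mul_one, hx.1, mul_one, hy.1, mul_one], hx.2.mul_right hy.2⟩ }
  refine ⟨Nat.card S, ?_, ?_⟩
  · have h1 := ζ.isCharacter.card_mul_fixDim S
    rw [← Finset.add_sum_erase _ _ (Finset.mem_univ 1), Finset.sum_congr rfl (g := fun _ => -1)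
      fun x hx => H.invol x.2.1 (by simpa using hx), Finset.sum_const,
      Finset.card_erase_of_mem (Finset.mem_univ _), Finset.card_univ, ← Nat.card_eq_fintype_card,
      OneMemClass.coe_one, H.one, nsmul_eq_mul, Nat.cast_pred Nat.card_pos] at h1
    refine ⟨fixDim S ζ.1 + 1, ?_⟩
    have : ((p - 1 : ℕ) : ℂ) = Nat.card S * (fixDim S ζ.1 + 1) := by
      rw [Nat.cast_pred hp.out.pos]; linear_combination -h1
    exact_mod_cast this
  · have h1 := H.sum_sq_mem (fun g => if Commute s g then 1 else 0) fun z hz g => by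
      congr 1
      have h2 : Commute s z := Subgroup.mem_center_iff.1 hz s
      exact propext ⟨fun h => by simpa using h2.inv_right.mul_right h, h2.mul_right⟩
    simp only [← Finset.card_filter, Finset.filter_filter, smul_eq_mul] at h1
    rw [Nat.card_eq_fintype_card (α := S), Fintype.card_subtype, Nat.card_eq_fintype_card,
      Fintype.card_subtype]
    refine Eq.trans ?_ (h1.trans (by congr 2; exact Finset.filter_congr fun g _ => Iff.rfl))
    congr 1
    refine Finset.filter_congr fun g _ => ?_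
    rw [Subgroup.mem_centralizer_singleton_iff]
    exact ⟨fun h => ⟨H.sq_mem_center hs hs1 h.symm, h.symm⟩, fun h => h.2.symm⟩

open Classical in
theorem card_class {s : G} (hs : s * s = 1) (hs1 : s ≠ 1) :
    (Finset.univ.filter (IsConj s) ⊆ (Finset.univ.filter fun x : G => x * x = 1).erase 1) ∧
      (Finset.univ.filter (IsConj s)).card * (p - 1) = 2 * p * Nat.card (Sylow p G) := by
  have hsub : Finset.univ.filter (IsConj s) ⊆
      (Finset.univ.filter fun x : G => x * x = 1).erase 1 := fun x hx => by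
    obtain ⟨c, rfl⟩ := isConj_iff.1 (Finset.mem_filter.1 hx).2
    simp [hs, hs1]
  refine ⟨hsub, ?_⟩
  obtain ⟨q, ⟨c, hc⟩, hq⟩ := H.card_centralizer hs hs1
  have h1 := (Subgroup.centralizer ({s} : Set G)).card_mul_index
  rw [hq, H.card, ← card_filter_isConj] at h1
  have h2 : (Finset.univ.filter (IsConj s)).card * q = 2 * p * Nat.card (Sylow p G) :=
    Nat.eq_of_mul_eq_mul_left (Nat.card_pos (α := Subgroup.center G)) (by linarith)
  have h3 := Finset.card_le_card hsub
  have h4 := H.count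
  have h5 := H.h5
  have h6 : 0 < Nat.card (Sylow p G) := Nat.card_pos
  have h7 : p ≤ 2 * q := Nat.le_of_mul_le_mul_left (c := 2 * Nat.card (Sylow p G))
    (by nlinarith [Nat.mul_le_mul_right q (h3.trans (Nat.le.intro ((add_comm _ _).trans h4.symm)))])
    (by omega)
  obtain rfl : c = 1 := by
    rcases c with _ | _ | c
    · omega
    · rfl
    · have : q * 2 ≤ q * (c + 1 + 1) := Nat.mul_le_mul_left q (by omega)
      omega
  rw [hc, mul_one, h2]

theorem card_sylow : 2 * Nat.card (Sylow p G) = (p - 1) * (p - 2) := by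
  classical
  obtain ⟨s, hs⟩ := exists_prime_orderOf_dvd_card' 2 (G := G)
    (H.card ▸ (dvd_mul_right 2 _).mul_left _)
  have hs1 : s ≠ 1 := by rintro rfl; simp at hs
  have hs2 : s * s = 1 := by rw [← pow_two, ← hs, pow_orderOf_eq_one]
  obtain ⟨h1, h2⟩ := H.card_class hs2 hs1
  have h4 := H.count
  have h6 : 0 < Nat.card (Sylow p G) := Nat.card_pos
  obtain ⟨d, hd⟩ : ∃ d, charDegree ζ.1 = d := ⟨_, rfl⟩
  have hp2 := H.deg
  have h5 := H.h5
  rw [hd] at hp2 h4
  have h3 := Finset.Subset.antisymm h1 fun t ht => by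
    by_contra h
    simp only [Finset.mem_erase, Finset.mem_filter, Finset.mem_univ, true_and] at ht h
    obtain ⟨h7, h8⟩ := H.card_class ht.2 ht.1
    have h9 := Finset.card_le_card (Finset.union_subset h1 h7)
    rw [Finset.card_union_of_disjoint (Finset.disjoint_filter.2 fun x _ hx hx' =>
      h (hx.trans hx'.symm))] at h9
    have := Nat.mul_le_mul_right (p - 1) h9
    rw [add_mul, h2, h8, show p - 1 = d + 1 by omega] at this
    generalize Nat.card (Sylow p G) = n at *
    nlinarith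
  rw [h3, show p - 1 = d + 1 by omega] at h2
  rw [show p - 1 = d + 1 by omega, show p - 2 = d by omega]
  refine Nat.eq_of_mul_eq_mul_left (show 0 < d by omega) ?_
  zify at h2 h4 hp2 ⊢
  linear_combination (d + 1) * h4 + h2 - 2 * (Nat.card (Sylow p G) : ℤ) * hp2

end Cfg

omit [Fintype G] hp in
theorem center_pow_eq_one [Finite G] (hperf : commutator G = ⊤) (g : G ⧸ Subgroup.center G) {z : G}
    (hz : z ∈ Subgroup.center G) : z ^ (Subgroup.zpowers g).index = 1 := by
  obtain ⟨g, rfl⟩ := QuotientGroup.mk_surjective g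
  set H := (Subgroup.zpowers (g : G ⧸ Subgroup.center G)).comap (QuotientGroup.mk' _) with hH
  have hmem : ∀ x ∈ H, ∃ (i : ℤ) (c : G), c ∈ Subgroup.center G ∧ x = g ^ i * c := fun x hx => by
    obtain ⟨i, hi⟩ := Subgroup.mem_zpowers_iff.1 hx
    exact ⟨i, _, QuotientGroup.eq.1 (show ((g ^ i : G) : G ⧸ Subgroup.center G) = x from hi),
      by group⟩
  have : IsMulCommutative H := ⟨⟨fun a b => Subtype.ext (by
    obtain ⟨i, c, hc, h1⟩ := hmem a a.2
    obtain ⟨j, d, hd, h2⟩ := hmem b b.2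
    have h3 : Commute (g ^ i) d := Subgroup.mem_center_iff.1 hd _
    have h4 : Commute (g ^ j * d) c := Subgroup.mem_center_iff.1 hc _
    rw [Subgroup.coe_mul, Subgroup.coe_mul, h1, h2]
    exact (((Commute.refl g).zpow_zpow i j).mul_right h3).mul_left h4.symm)⟩⟩
  let _ : CommGroup H := { (inferInstance : Group H) with mul_comm := mul_comm' }
  have h1 := MonoidHom.transfer_eq_pow (MonoidHom.id H) z fun k c _ => by
    rw [mul_assoc, ← Subgroup.mem_center_iff.1 (pow_mem hz k) c, inv_mul_cancel_left]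
  rw [unitsHom_apply_of_perfect hperf] at h1
  rw [← Subgroup.index_comap_of_surjective _ (QuotientGroup.mk'_surjective _)]
  exact (congrArg Subtype.val h1).symm

omit [Fintype G] hp in
theorem exists_orderOf_sl2 (F : Type) [Field F] [Fintype F] :
    ∃ g : Matrix.SpecialLinearGroup (Fin 2) F, Fintype.card F - 1 ∣ orderOf g := by
  classical
  obtain ⟨x, hx⟩ := IsCyclic.exists_ofOrder_eq_natCard (α := Fˣ)
  obtain ⟨g, hg⟩ : ∃ g : Matrix.SpecialLinearGroup (Fin 2) F, g.1 = Matrix.diagonal ![(x : F), ↑x⁻¹] :=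
    ⟨⟨Matrix.diagonal ![(x : F), ↑x⁻¹], by simp⟩, rfl⟩
  refine ⟨g, ?_⟩
  rw [← Fintype.card_units, ← Nat.card_eq_fintype_card, ← hx, orderOf_dvd_iff_pow_eq_one]
  have h1 := congrArg (fun A : Matrix.SpecialLinearGroup (Fin 2) F => A.1 0 0)
    (pow_orderOf_eq_one g)
  simp only [Matrix.SpecialLinearGroup.coe_pow, hg, Matrix.diagonal_pow] at h1
  exact Units.ext (by simpa using h1)

theorem of_perfect (hperf : commutator G = ⊤) (h5 : 5 < p) (hP : Nat.card P = p)
    (hnn : ¬ (P : Subgroup G).Normal) (ζ : IrrCharacter G) (hf : ∀ g, ζ.1 g = ζ.1 1 → g = 1)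
    (hd : charDegree ζ.1 + 2 = p) : Subgroup.center G = ⊥ ∧
      ∃ (a : ℕ) (F : Type) (_ : Field F) (_ : Fintype F), p = 2 ^ a + 1 ∧ Fintype.card F = 2 ^ a ∧
        Nonempty (G ≃* Matrix.SpecialLinearGroup (Fin 2) F) := by
  classical
  obtain ⟨F₀⟩ := nonempty_autFrame hP
  obtain ⟨h1, h2, F, rfl⟩ := (F₀.small_faithful hnn ζ hf hd.le).resolve_left (by omega)
  have he : F.e = 2 := by omega
  obtain ⟨k, hk, hk1, hk2⟩ := exists_coprime_pow_eq_sq (G := G)
  have hpo := hp.out.eq_two_or_odd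
  have hodd : ∀ z ∈ Subgroup.center G, ¬ 2 ∣ orderOf z := fun z hz h => by
    have := h.trans (orderOf_dvd_of_pow_eq_one (ζ.center_pow_charDegree hperf hf hz))
    omega
  have H : Cfg P ζ k :=
    { h5 := h5, faith := hf, deg := hd, odd := hodd, k_odd := hk1, k_two := hk2
      alt := fun g hg => alt_formula F he h5 hf hd hk (fun z hz => hk1 z (hodd z hz)) hg
      cen := fun g s => F.mem_center_of_commute
      reg := fun z => F.center_reg
      card := he ▸ F.card_eq
      sing := by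
        obtain ⟨θ, hθ⟩ := ζ.exists_overCen
        obtain ⟨E, hδ, l, hl, rfl⟩ := F.exists_excFam_pos h2 ζ h1 (fun h' => hnn
          ((le_bot_iff.1 (ζ.charKer_eq_bot_iff.2 hf ▸ h')).symm ▸ inferInstance)) hθ
        have := Fintype.ofFinite (P : Subgroup G)
        have h3 := F.sum_mul_conj_of_val (E.ψ l).isCharacter (E.val l hl)
        have h4 := E.rmul_eq hl l
        rw [if_pos (F.orb_refl l), E.fixDim_eq_one hδ hl h1, hδ] at h4
        rw [show rmul P (E.ψ l).1 l = 0 by omega,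
          ← Finset.add_sum_erase _ _ (Finset.mem_univ 1)] at h3
        have hdC : (charDegree (E.ψ l).1 + 2 : ℂ) = p := by exact_mod_cast hd
        rw [F.sum_sing (fun g h => by rw [(E.ψ l).isClassFunction g h])
          (mul_inv_cancel θ ▸ hθ.mul hθ.cconj)]
        congr 2
        simp only [OneMemClass.coe_one, IrrCharacter.one_eq_charDegree, map_natCast, he, hδ] at h3
        push_cast at h3
        linear_combination h3 + 2 * hdC }
  have h3 := H.card_sylow
  obtain ⟨n, hn⟩ : ∃ n, Nat.card (Sylow p G) = 1 + n * p := by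
    have := card_sylow_modEq_one p G
    rw [Nat.ModEq, Nat.mod_eq_of_lt hp.out.one_lt] at this
    exact ⟨Nat.card (Sylow p G) / p, by rw [← this, Nat.mod_add_div']⟩
  obtain ⟨d, hd'⟩ : ∃ d, p = d + 2 := ⟨_, hd.symm⟩
  rw [hn, show p - 1 = d + 1 by omega, show p - 2 = d by omega] at h3
  have h4 : 2 * n + 1 = d := Nat.eq_of_mul_eq_mul_left hp.out.pos (by rw [hd'] at h3; nlinarith)
  have hO := F.pPrimeCore_eq ζ.isCharacter hf hd.le
  rcases brauer_prime hperf P hP hn fun h => by have := h.le; omega with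
    ⟨h6, -⟩ | ⟨-, -, h7, m, K, _, _, h8, h9, h10⟩
  · omega
  rw [hO] at h7
  have φ := (QuotientGroup.quotientMulEquivOfEq hO.symm).trans h10.some
  have hZ : Subgroup.center G = ⊥ := by
    refine (Subgroup.eq_bot_iff_forall _).2 fun z hz => ?_
    obtain ⟨g, c, hc⟩ := exists_orderOf_sl2 K
    have h11 := center_pow_eq_one hperf (φ.symm g) hz
    have h12 := (Subgroup.zpowers (φ.symm g)).card_mul_index
    rw [Nat.card_zpowers, MulEquiv.orderOf_eq, hc, h7, show Fintype.card K - 1 = d by omega,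
      show p - 1 = d + 1 by omega, show p - 2 = d by omega, mul_comm _ d, mul_assoc,
      Nat.mul_right_inj (by omega)] at h12
    have h13 := orderOf_dvd_of_pow_eq_one (ζ.center_pow_charDegree hperf hf hz)
    rw [show charDegree ζ.1 = d by omega] at h13
    have h14 := (orderOf_dvd_of_pow_eq_one h11).trans (Dvd.intro_left c h12)
    rw [show p * (d + 1) = d * (d + 3) + 2 by rw [hd']; ring,
      Nat.dvd_add_right (h13.mul_right _)] at h14
    exact orderOf_eq_one_iff.1 (((Nat.dvd_prime Nat.prime_two).1 h14).resolve_right fun h =>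
      hodd z hz (h ▸ dvd_rfl))
  exact ⟨hZ, m, K, _, _, h9, h8, ⟨(QuotientGroup.quotientBot.symm.trans
    (QuotientGroup.quotientMulEquivOfEq hZ.symm)).trans φ⟩⟩
end

/-- Let G be a finite group with centre Z and p > 5 a prime such that a Sylow p-subgroup of G has order p and is not normal. If G has a faithful irreducible character of degree p − 2, then p = 2^a + 1 for some a and G is isomorphic to the direct product of SL(2, 2^a) with Z. -/
theorem result {G : Type*} [Group G] [Finite G] (p : ℕ) [Fact p.Prime] (hp : 5 < p) (P : Sylow p G) (hP : Nat.card P = p) (hnn : ¬ (P : Subgroup G).Normal) (ζ : G → ℂ) (hζ : Cfsg.IsIrrCharacter G ζ) (hfaith : ∀ g : G, ζ g = ζ 1 → g = 1) (hdeg : Cfsg.charDegree ζ = p - 2) : ∃ (a : ℕ) (F : Type) (_ : Field F) (_ : Fintype F), p = 2 ^ a + 1 ∧ Fintype.card F = 2 ^ a ∧ Nonempty (G ≃* Matrix.SpecialLinearGroup (Fin 2) F × Subgroup.center G) := by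
  have := Fintype.ofFinite G
  have hd : charDegree ζ + 2 = p := by omega
  obtain ⟨F₀⟩ := nonempty_autFrame hP
  obtain ⟨h1, h2, F, rfl⟩ := (F₀.small_faithful hnn ⟨ζ, hζ⟩ hfaith hd.le).resolve_left
    (by simp only; omega)
  have hG := F.commutator_sup_center h2 (ζ := ⟨ζ, hζ⟩) hfaith h1
  obtain ⟨Q, ξ, hQ, hQn, hξ, hξd⟩ := F.exists_perfect h2 (ζ := ⟨ζ, hζ⟩) hfaith h1
  have := Fintype.ofFinite (commutator G)
  obtain ⟨hZ, a, K, _, _, h3, h4, ⟨φ⟩⟩ := of_perfect (commutator_commutator_eq_top hG) hp hQ hQn ξ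
    hξ (hξd ▸ hd)
  exact ⟨a, K, _, _, h3, h4,
    ⟨(nonempty_equiv_prod_center hG hZ).some.trans (φ.prodCongr (MulEquiv.refl _))⟩⟩

end Cfsg.Agent.S4705
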