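import Cfsg.Statements.S4904
import Cfsg.Agent.Lin.FourB
import Cfsg.Agent.S4705

set_option autoImplicit false
open Cfsg

namespace Cfsg.Agent.S4904

/-- transport of `SL` along a ring isomorphism -/
def slCongr {R S : Type*} [CommRing R] [CommRing S] (e : R ≃+* S) :
    Matrix.SpecialLinearGroup (Fin 2) R ≃* Matrix.SpecialLinearGroup (Fin 2) S :=
  MonoidHom.toMulEquiv (Matrix.SpecialLinearGroup.map e.toRingHom)
    (Matrix.SpecialLinearGroup.map e.symm.toRingHom)
    (by ext g i j; exact e.symm_apply_apply _) (by ext g i j; exact e.apply_symm_apply _)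

/-- Let G be a finite group with a faithful irreducible complex character of degree d < 27, and p a prime with p > d + 1 and P a Sylow p-subgroup of G. Then one of the following holds: P is normal in G; the quotient of G by its centre is isomorphic to PSL(2,p) and 2d = p + 1 or 2d = p − 1; p = 17, d = 15 and G is isomorphic to the direct product of SL(2,16) with an abelian group; p = 7, d = 4 and G modulo its centre is the alternating group of degree 7; p = 5, d = 3 and G modulo its centre is the alternating group of degree 6. -/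
theorem result {G : Type*} [Group G] [Finite G] (d : ℕ) (hd : d < 27) (χ : Cfsg.IrrCharacter G) (hdeg : Cfsg.charDegree (χ : G → ℂ) = d) (hfaith : ∀ g : G, (χ : G → ℂ) g = (χ : G → ℂ) 1 → g = 1) (p : ℕ) [Fact p.Prime] (hp : d + 1 < p) (P : Sylow p G) : (P : Subgroup G).Normal ∨ (Nonempty (G ⧸ Subgroup.center G ≃* Matrix.ProjectiveSpecialLinearGroup (Fin 2) (ZMod p)) ∧ (2 * d = p + 1 ∨ 2 * d = p - 1)) ∨ (p = 17 ∧ d = 15 ∧ ∃ (A : Type) (_ : CommGroup A) (_ : Finite A), Nonempty (G ≃* Matrix.SpecialLinearGroup (Fin 2) (GaloisField 2 4) × A)) ∨ (p = 7 ∧ d = 4 ∧ Nonempty (G ⧸ Subgroup.center G ≃* ↥(alternatingGroup (Fin 7)))) ∨ (p = 5 ∧ d = 3 ∧ Nonempty (G ⧸ Subgroup.center G ≃* ↥(alternatingGroup (Fin 6)))) := by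
  rw [or_iff_not_imp_left]
  intro hnn
  have hp' : p.Prime := Fact.out
  rcases χ.small_reduce hfaith (by omega) hnn with ⟨h1, h2⟩ | ⟨hG, Q, ξ, F, hf, h1, h2, h3⟩
  · exact Or.inl ⟨h1, Or.inr (by omega)⟩
  have := Fintype.ofFinite (commutator G)
  have D : QData F ξ := ⟨commutator_commutator_eq_top hG, hf, by omega, h3⟩
  obtain ⟨e₀⟩ := nonempty_quotient_center_equiv hG
  obtain ⟨t, ht⟩ := F.e_dvd
  have h4 := F.two_le
  have h5 : 5 < p → F.e = 2 → p = 17 ∧ d = 15 ∧ ∃ (A : Type) (_ : CommGroup A) (_ : Finite A),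
      Nonempty (G ≃* Matrix.SpecialLinearGroup (Fin 2) (GaloisField 2 4) × A) := by
    intro h5 h6
    obtain ⟨hZ, a, K, _, _, h7, h8, ⟨φ⟩⟩ := S4705.of_perfect D.perf h5 F.card F.nn ξ hf (by omega)
    have h9 : a < 5 := (Nat.pow_lt_pow_iff_right one_lt_two).1 (by omega)
    obtain rfl : a = 4 := by
      interval_cases a <;> first | omega | (subst h7; norm_num at hp')
    have := Fintype.ofFinite (GaloisField 2 4)
    have : NeZero (Nat.card (Subgroup.center G)) := ⟨Nat.card_pos.ne'⟩
    exact ⟨by omega, by omega, Multiplicative (ZMod (Nat.card (Subgroup.center G))), inferInstance,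
      inferInstance, ⟨(nonempty_equiv_prod_center hG hZ).some.trans ((φ.trans
        (slCongr (FiniteField.ringEquivOfCardEq (by
          rw [h8, ← Nat.card_eq_fintype_card, GaloisField.card 2 4 (by norm_num)])))).prodCongr
        (zmodCyclicMulEquiv (χ.isCyclic_center_of_faithful
          (χ.charKer_eq_bot_iff.2 hfaith))).symm)⟩⟩
  by_cases h7 : 7 < p
  · rcases F.toAutFrame.feit_small h7 F.nn ξ hf (by omega) (t := t) (by rw [ht, mul_comm])
      with ⟨⟨e⟩, h6, -⟩ | ⟨-, h6, h8⟩
    · exact Or.inl ⟨⟨e₀.trans e⟩, by omega⟩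
    · refine Or.inr (Or.inl (h5 (by omega) ?_))
      have h9 := Nat.mul_le_mul_left F.e h6
      have h10 : F.e ≤ 4 := by
        have : F.e * (F.e + 3) ≤ 25 + F.e := by omega
        nlinarith
      by_contra h11
      by_cases h12 : F.e = 3
      · rw [h12] at ht h9
        obtain rfl : p = 19 := by
          have : p ≤ 29 := by omega
          have : 19 ≤ p := by omega
          interval_cases p <;> first | omega | norm_num at hp'
        exact D.not_nineteen h12
      · refine h11 (h8 (Nat.not_even_iff_odd.1 fun h => ?_))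
        obtain ⟨z, hz⟩ := exists_prime_orderOf_dvd_card' 2 h.two_dvd
        rw [show F.e = 4 by omega] at ht h9 h2
        exact D.not_dvd_center (q := 2) (by omega) z.2 (by rw [Subgroup.orderOf_coe, hz])
  · have h8 : p = 5 ∨ p = 7 := by
      have : p ≠ 6 := by rintro rfl; norm_num at hp'
      omega
    rcases h8 with rfl | rfl
    · rcases D.five with ⟨⟨e⟩⟩ | ⟨⟨e⟩⟩
      · exact Or.inl ⟨⟨e₀.trans e⟩, by omega⟩
      · exact Or.inr (Or.inr (Or.inr ⟨rfl, by omega, ⟨e₀.trans e⟩⟩))
    · have h9 : F.e = 3 := by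
        by_contra h9
        have := (h5 (by norm_num) (by omega)).1
        omega
      rcases D.seven h9 with ⟨⟨e⟩⟩ | ⟨⟨e⟩⟩
      · exact Or.inl ⟨⟨e₀.trans e⟩, by omega⟩
      · exact Or.inr (Or.inr (Or.inl ⟨rfl, by omega, ⟨e₀.trans e⟩⟩))

end Cfsg.Agent.S4904
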