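import Cfsg.Statements.S4546
import Cfsg.Agent.Blk.Eight7

set_option autoImplicit false
open Cfsg

namespace Cfsg.Agent.S4546

theorem exists_fixed {A : Type*} [CommGroup A] [Finite A] (hA : IsPGroup 2 A)
    {E : Subgroup (MulAut A)} (hE : ¬ 2 ∣ Nat.card E) {x : A}
    (hx : ∀ a, a ^ 2 ∈ Subgroup.zpowers x) : ∃ z, (∀ σ ∈ E, σ z = z) ∧ z ^ 2 = x ^ 2 := by
  obtain ⟨k, hk⟩ := hA.exists_card_eq
  obtain ⟨π, -, h2, h3⟩ := exists_proj_fixed E
    (hk ▸ (Nat.prime_two.coprime_iff_not_dvd.2 hE).symm.pow_right k)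
  refine ⟨π x, fun σ hσ => h2 σ hσ x, ?_⟩
  by_contra h
  have h4 : (π x / x) ^ 2 ≠ 1 := by rwa [div_pow, Ne, div_eq_one]
  obtain ⟨j, hj⟩ := IsPGroup.iff_orderOf.1 hA ((π x / x) ^ 2)
  obtain ⟨_, ⟨i, rfl⟩, ht⟩ := exists_orderOf_two_mem_zpowers (g := (π x / x) ^ 2)
    (hj ▸ dvd_pow_self 2 fun h => h4 (by rwa [h, pow_zero, orderOf_eq_one_iff] at hj))
  have h5 := h3 _ fun σ _ => eq_of_mem_zpowers_of_orderOf_two (g := x)
    (by rw [map_zpow, map_pow]; exact zpow_mem (hx _) i) (zpow_mem (hx _) i)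
    (by rw [MulEquiv.orderOf_eq]; exact ht) ht
  rw [map_zpow, map_pow, map_div, h3 _ fun σ hσ => h2 σ hσ x, div_self', one_pow, one_zpow] at h5
  beta_reduce at ht
  rw [← h5, orderOf_one] at ht
  omega

/-- Let B be a 2-block of the finite group G (relative to a maximal ideal M of the algebraic integers containing 2) whose defect group D is the direct product of a cyclic group of order 2 ^ n (n ≥ 2) and an elementary abelian group of order 8. Then B contains exactly 2 ^ (n + 3) irreducible characters, all of height zero, and its 2-regular rank is 1, 3, 5 or 7. -/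
theorem result {G : Type*} [Group G] [Finite G] (M : Ideal Cfsg.AlgInt) (hM : Cfsg.IsPModular 2 M) (B : Set (Cfsg.IrrCharacter G)) (hB : Cfsg.IsPBlock M B) (D : Subgroup G) (hD : Cfsg.IsDefectGroup 2 M B D) (n : ℕ) (hn : 2 ≤ n) (hiso : Nonempty (D ≃* Multiplicative (ZMod (2 ^ n) × ZMod 2 × ZMod 2 × ZMod 2))) : Nat.card B = 2 ^ (n + 3) ∧ (∀ χ ∈ B, Cfsg.blockHeight 2 B (χ : G → ℂ) = 0) ∧ (Cfsg.blockRank 2 B = 1 ∨ Cfsg.blockRank 2 B = 3 ∨ Cfsg.blockRank 2 B = 5 ∨ Cfsg.blockRank 2 B = 7) := by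
  have := Fintype.ofFinite G
  obtain ⟨e, S⟩ := hD.exists_starSetup hM hB
  obtain ⟨φ⟩ := hiso
  have hab : D ≤ Subgroup.centralizer (D : Set G) := fun a ha b hb =>
    congrArg Subtype.val (φ.injective (by rw [map_mul, map_mul, mul_comm]) :
      (⟨b, hb⟩ * ⟨a, ha⟩ : D) = ⟨a, ha⟩ * ⟨b, hb⟩)
  have := isMulCommutative_of_le_centralizer hab
  letI : CommGroup D := { (inferInstance : Group D) with mul_comm := fun a b => mul_comm' a b }
  have h1 : Nat.card D = 2 ^ (n + 3) := by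
    rw [Nat.card_congr φ.toEquiv, Nat.card_congr Multiplicative.toAdd]
    simp only [Nat.card_prod, Nat.card_zmod]; ring
  have h2 : orderOf (φ.symm (Multiplicative.ofAdd (1, 0, 0, 0))) = 2 ^ n := by
    rw [MulEquiv.orderOf_eq, orderOf_ofAdd_eq_addOrderOf, Prod.addOrderOf, ZMod.addOrderOf_one]
    exact (congrArg _ addOrderOf_zero).trans (Nat.lcm_one_right _)
  obtain ⟨z, h3, h4⟩ := exists_fixed S.isPGroup (S.not_dvd_card_inAut hab)
    (x := φ.symm (Multiplicative.ofAdd (1, 0, 0, 0))) fun a => by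
      refine ⟨(2 * (φ a).toAdd.1).val, φ.injective ?_⟩
      have h3 : ∀ b : ZMod 2, b + b = 0 := by decide
      simp only [zpow_natCast, map_pow, MulEquiv.apply_symm_apply]
      refine Multiplicative.toAdd.injective ?_
      ext <;> simp [h3, two_mul]
  have h5 : orderOf z = 2 ^ n := by
    obtain ⟨j, hj⟩ := IsPGroup.iff_orderOf.1 S.isPGroup z
    have h5 := congrArg orderOf h4
    obtain ⟨m, rfl⟩ : ∃ m, n = m + 2 := ⟨n - 2, by omega⟩
    rw [orderOf_pow' _ two_ne_zero, orderOf_pow' _ two_ne_zero, h2, hj, pow_succ 2 (m + 1),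
      Nat.gcd_mul_left_left, Nat.mul_div_cancel _ two_pos] at h5
    rcases j with _ | j
    · simp at h5; omega
    · rw [pow_succ, Nat.gcd_mul_left_left, Nat.mul_div_cancel _ two_pos] at h5
      rw [hj, pow_succ, h5, ← pow_succ]
  have h6 := (Subgroup.zpowers z).index_mul_card
  rw [Nat.card_zpowers, h5, h1, pow_add, mul_comm] at h6
  exact h1 ▸ S.of_index_eight hab h3 (Nat.eq_of_mul_eq_mul_left (by positivity) h6)

end Cfsg.Agent.S4546
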