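import Cfsg.Statements.S4602
import Cfsg.Agent.Grp.PSolvable
-- import your own Cfsg.Agent.* helpers here

set_option autoImplicit false
open Cfsg

namespace Cfsg.Agent.S4602

/-- Let G be a finite p-solvable group and q a prime different from p. Some Sylow p-subgroup of G normalizes some Sylow q-subgroup of G if and only if q does not divide the order of G/O_{p'}(G), the quotient by the largest normal subgroup of order prime to p. -/
theorem result {G : Type*} [Group G] [Finite G] (p q : ℕ) [Fact p.Prime] [Fact q.Prime] (hpq : p ≠ q) (hsolv : Cfsg.IsPSolvable p G) :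
    (∃ (P : Sylow p G) (Q : Sylow q G), (P : Subgroup G) ≤ Subgroup.normalizer ((Q : Subgroup G) : Set G)) ↔ ¬ q ∣ (Cfsg.pPrimeCore p G).index := by
  constructor
  · rintro ⟨P, Q, hle⟩
    have hpq' : ¬ p ∣ Nat.card ((Q : Subgroup G).map (QuotientGroup.mk' (pPrimeCore p G))) := by
      obtain ⟨k, hk⟩ := IsPGroup.iff_card.1 (Q.2.map (QuotientGroup.mk' (pPrimeCore p G)))
      rw [hk]
      exact fun hd => hpq ((Nat.prime_dvd_prime_iff_eq Fact.out Fact.out).1
        ((Fact.out : p.Prime).dvd_of_dvd_pow hd))
    have h1 : pCore p (G ⧸ pPrimeCore p G) ≤ Subgroup.normalizer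
        (((Q : Subgroup G).map (QuotientGroup.mk' (pPrimeCore p G)) : Subgroup _) : Set _) :=
      (pCore_le_sylow (P.mapSurjective (QuotientGroup.mk'_surjective _))).trans
        ((Subgroup.map_mono hle).trans (Subgroup.le_normalizer_map _))
    have h2 := inf_normalizer_eq_inf_centralizer (N := pCore p (G ⧸ pPrimeCore p G))
      (A := (Q : Subgroup G).map (QuotientGroup.mk' (pPrimeCore p G)))
      Subgroup.le_normalizer_of_normal
      (inf_eq_bot_of_coprime_card (coprime_card_of_isPGroup (isPGroup_pCore p _) hpq'))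
    rw [inf_eq_left.2 h1, eq_comm, inf_eq_left, Subgroup.le_centralizer_iff] at h2
    have h3 := eq_bot_of_isPGroup_of_not_dvd ((isPGroup_pCore p _).to_le (h2.trans
      ((hsolv.quotient _).centralizer_pCore_le (pPrimeCore_quotient_pPrimeCore p)))) hpq'
    exact fun hd => Q.not_dvd_index (hd.trans (Subgroup.index_dvd_of_le (map_mk_eq_bot_iff.1 h3)))
  · intro h
    obtain ⟨P⟩ : Nonempty (Sylow p G) := inferInstance
    obtain ⟨Q, h1, h2, h3, h4⟩ := exists_invariant_sylow q (N := pPrimeCore p G) (A := P)
      Subgroup.le_normalizer_of_normal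
      (coprime_card_of_isPGroup P.2 (not_dvd_card_pPrimeCore p)).symm
      (Or.inr (isSolvable_of_isPGroup P.2))
    refine ⟨P, h2.toSylow fun hd => ?_, h4⟩
    rw [← Subgroup.relIndex_mul_index h1] at hd
    exact ((Nat.Prime.dvd_mul Fact.out).1 hd).elim h3 h

end Cfsg.Agent.S4602
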