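import Cfsg.Statements.S4779
import Cfsg.Agent.CT.DegGraph

set_option autoImplicit false
open Cfsg

namespace Cfsg.Agent.S4779


/-- Let N be a solvable normal subgroup of the finite group G contained in the derived subgroup of G, and consider the common-divisor graph on the relative degree set cd(G|N) (degrees of irreducible complex characters of G whose kernel does not contain N, two distinct degrees adjacent when not coprime). If this graph has two vertices that are not joined by any path, then there is a vertex a₀ such that any two distinct vertices in the component of a₀ are adjacent, and any two distinct vertices outside that component are adjacent or have a common neighbour (one component is complete, the other has diameter at most 2). -/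
theorem result {G : Type*} [Group G] [Finite G] (N : Subgroup G) [N.Normal] [Group.IsSolvable N] (hNG : N ≤ commutator G) (hdisc : ¬ (Cfsg.commonDivisorGraph.induce (Cfsg.relCharDegrees N)).Preconnected) : ∃ a₀ : ↥(Cfsg.relCharDegrees N), (∀ b c : ↥(Cfsg.relCharDegrees N), (Cfsg.commonDivisorGraph.induce (Cfsg.relCharDegrees N)).Reachable a₀ b → (Cfsg.commonDivisorGraph.induce (Cfsg.relCharDegrees N)).Reachable a₀ c → b ≠ c → (Cfsg.commonDivisorGraph.induce (Cfsg.relCharDegrees N)).Adj b c) ∧ (∀ b c : ↥(Cfsg.relCharDegrees N), ¬ (Cfsg.commonDivisorGraph.induce (Cfsg.relCharDegrees N)).Reachable a₀ b → ¬ (Cfsg.commonDivisorGraph.induce (Cfsg.relCharDegrees N)).Reachable a₀ c → b ≠ c → (Cfsg.commonDivisorGraph.induce (Cfsg.relCharDegrees N)).Adj b c ∨ ∃ d : ↥(Cfsg.relCharDegrees N), (Cfsg.commonDivisorGraph.induce (Cfsg.relCharDegrees N)).Adj b d ∧ (Cfsg.commonDivisorGraph.induce (Cfsg.relCharDegrees N)).Adj d c) := by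
  classical
  have := Fintype.ofFinite G
  rw [SimpleGraph.Preconnected] at hdisc
  push Not at hdisc
  obtain ⟨u, v, huv⟩ := hdisc
  have hN1 : N ≠ ⊥ := by
    rintro rfl
    obtain ⟨χ, ⟨x, hx, h⟩, -⟩ := u.2
    exact h (by rw [Subgroup.mem_bot.1 hx])
  have hN : ⁅N, N⁆ < N := by
    haveI := (Subgroup.nontrivial_iff_ne_bot N).2 hN1
    have h1 := Subgroup.map_lt_map_iff_of_injective N.subtype_injective |>.2
      (Group.IsSolvable.commutator_lt_top_of_nontrivial N)
    rwa [Subgroup.map_subtype_commutator, ← MonoidHom.range_eq_map, Subgroup.range_subtype] at h1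
  obtain ⟨p, hp, hpm⟩ := exists_prime_dvd_relIndex_of_lt hN
  obtain ⟨a₀, w, hpa, haw⟩ : ∃ a₀ w : relCharDegrees N, p ∣ a₀.1 ∧
      ¬ (relGraph N).Reachable a₀ w := by
    rcases relGraph_dvd_or_dvd hNG huv hp hpm with h | h
    · exact ⟨u, v, h, huv⟩
    · exact ⟨v, u, h, fun h1 => huv h1.symm⟩
  have hcop : ∀ b : relCharDegrees N, ¬ (relGraph N).Reachable a₀ b →
      (b : ℕ).Coprime (⁅N, N⁆.relIndex N) := fun b hb =>
    (relGraph_coprime_or hNG hb).resolve_left (not_coprime_of_dvd_of_dvd hp.one_lt hpa hpm)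
  have hpw : ¬ p ∣ w.1 := fun h => not_coprime_of_dvd_of_dvd hp.one_lt h hpm (hcop w haw)
  have hdvd : ∀ b : relCharDegrees N, (relGraph N).Reachable a₀ b → p ∣ b.1 := fun b hb => by
    by_contra h
    exact haw (hb.trans (relGraph_reach_of_not_dvd hNG hp hpm b w h hpw))
  refine ⟨a₀, fun b c hb hc hbc => relGraph_adj hbc
    (not_coprime_of_dvd_of_dvd hp.one_lt (hdvd b hb) (hdvd c hc)), fun b c hb hc hbc => ?_⟩
  have fin : ∀ d ∈ relCharDegrees N, ¬ b.1.Coprime d → ¬ d.Coprime c.1 →
      (relGraph N).Adj b c ∨ ∃ d : relCharDegrees N, (relGraph N).Adj b d ∧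
        (relGraph N).Adj d c := by
    intro d hd h1 h2
    by_cases h3 : b = ⟨d, hd⟩
    · exact Or.inl (relGraph_adj hbc (by rw [h3]; exact h2))
    by_cases h4 : (⟨d, hd⟩ : relCharDegrees N) = c
    · exact Or.inl (relGraph_adj hbc (by rw [← h4]; exact h1))
    exact Or.inr ⟨⟨d, hd⟩, relGraph_adj h3 h1, relGraph_adj h4 h2⟩
  have lin : ∀ b c : relCharDegrees N, ¬ (relGraph N).Reachable a₀ b →
      ¬ (relGraph N).Reachable a₀ c → ∀ (χ : IrrCharacter G) (θ : IrrCharacter N),
      charDegree χ.1 = b → θ ≠ IrrCharacter.triv N →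
      classInner (fun n : N => χ.1 n) θ.1 ≠ 0 → charDegree θ.1 = 1 →
      ∃ d ∈ relCharDegrees N, ¬ b.1.Coprime d ∧ ¬ d.Coprime c.1 := by
    intro b c hb hc χ θ h1 h2 h3 h4
    obtain ⟨q, hq, h5⟩ := exists_pDet_ne_one h4 h2
    have h6 := dvd_relIndex_of_isPLin hq (isPLin_pDet q θ) h5
    exact relDegree_link_of_label hNG hq
      (fun h => not_coprime_of_dvd_of_dvd hq.one_lt h h6 (hcop b hb)) c.2
      (fun h => not_coprime_of_dvd_of_dvd hq.one_lt h h6 (hcop c hc)) (isPLin_pDet q θ) h5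
      (h1 ▸ linLabel_dvd hNG hq h5 χ h3)
  obtain ⟨χ, θ, h1, h2, h3⟩ := exists_under_of_mem_relCharDegrees b.2
  obtain ⟨χ', θ', h1', h2', h3'⟩ := exists_under_of_mem_relCharDegrees c.2
  by_cases h4 : charDegree θ.1 = 1
  · obtain ⟨d, hd, h5, h6⟩ := lin b c hb hc χ θ h1 h2 h3 h4
    exact fin d hd h5 h6
  by_cases h4' : charDegree θ'.1 = 1
  · obtain ⟨d, hd, h5, h6⟩ := lin c b hc hb χ' θ' h1' h2' h3' h4'
    exact fin d hd (fun h => h6 h.symm) (fun h => h5 h.symm)
  have hna : commutator N ≠ ⊥ := fun h =>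
    h4 (θ.charDegree_eq_one_iff_commutator_le.2 (h ▸ bot_le))
  obtain ⟨r, f, hr, hf, -, h5, h6⟩ := exists_degree_dichotomy inferInstance hna
  rw [commutator_index_eq_relIndex] at h5
  have nl : ∀ b : relCharDegrees N, ¬ (relGraph N).Reachable a₀ b →
      ∀ (χ : IrrCharacter G) (θ : IrrCharacter N), charDegree χ.1 = b →
      classInner (fun n : N => χ.1 n) θ.1 ≠ 0 → charDegree θ.1 ≠ 1 → r ∣ b.1 := by
    intro b hb χ θ h1 h3 h4
    have h7 : charDegree θ.1 ∣ b := h1 ▸ clifford_charDegree_dvd χ h3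
    obtain ⟨e, d, h8, h9, h10⟩ := h6 θ
    have he : e = 1 := by
      by_contra he
      obtain ⟨q, hq, hqe⟩ := Nat.exists_prime_and_dvd he
      exact not_coprime_of_dvd_of_dvd hq.one_lt ((hqe.mul_right d).trans (h8 ▸ h7))
        (h5 q hq (hqe.trans h9)) (hcop b hb)
    rw [he, one_mul] at h8
    rcases h10 with ⟨ξ, h11⟩ | h11
    · exfalso
      obtain ⟨q, hq, hqf⟩ := Nat.exists_prime_and_dvd hf.ne'
      obtain ⟨ζ, hζ⟩ := ξ.exists_over
      have h12 : f * d ∣ charDegree ζ.1 := h11 ▸ clifford_charDegree_dvd ζ hζ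
      have h13 : ξ ≠ IrrCharacter.triv N := by
        rintro rfl
        rw [← IrrCharacter.ofHom_one, IrrCharacter.charDegree_ofHom] at h11
        exact hf.ne' (Nat.eq_one_of_mul_eq_one_right h11.symm)
      let z : relCharDegrees N := ⟨_, mem_relCharDegrees_of_over h13 hζ⟩
      have h14 : (relGraph N).Reachable z b := relGraph_reach (not_coprime_of_dvd_of_dvd
        (lt_of_le_of_ne θ.charDegree_pos (Ne.symm h4)) (h8 ▸ (Dvd.intro_left _ rfl).trans h12) h7)
      exact not_coprime_of_dvd_of_dvd hq.one_lt ((hqf.mul_right d).trans h12) (h5 q hq hqf)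
        (hcop z fun h => hb (h.trans h14))
    · exact h11.trans (h8 ▸ h7)
  exact Or.inl (relGraph_adj hbc (not_coprime_of_dvd_of_dvd hr.one_lt
    (nl b hb χ θ h1 h3 h4) (nl c hc χ' θ' h1' h3' h4')))

end Cfsg.Agent.S4779
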