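import Cfsg.Statements.S4783
import Cfsg.Agent.CT.Gar4

set_option autoImplicit false
open Cfsg

namespace Cfsg.Agent.S4783

/-- A finite solvable group with exactly four distinct irreducible complex character degrees has trivial fourth derived subgroup (derived length at most 4). -/
theorem result {G : Type*} [Group G] [Finite G] [Group.IsSolvable G] (hcd : Nat.card ↥(Cfsg.charDegrees G) = 4) : derivedSeries G 4 = ⊥ := by
  classical
  have h1 : ∀ n, FT.Gar.Deg (⊤ : Subgroup G) n → n ∈ charDegrees G := by
    rintro _ ⟨χ, h, rfl⟩
    exact ⟨⟨χ, h.2.comp_surjective (Subgroup.topEquiv (G := G)).symm.toMonoidHom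
      (Subgroup.topEquiv (G := G)).symm.surjective⟩, rfl⟩
  have h2 := FT.Gar.garrison G inferInstance fun a b c d ha hb hc hd h3 h4 h5 h6 => by
    by_contra h7
    have hfin : (charDegrees G).Finite := Nat.finite_of_card_ne_zero (by omega)
    have h8 : ({1, a, b, c, d} : Finset ℕ).card ≤ (charDegrees G).ncard := by
      rw [← Set.ncard_coe_finset]
      refine Set.ncard_le_ncard (fun x hx => ?_) hfin
      simp only [Finset.coe_insert, Finset.coe_singleton, Set.mem_insert_iff,
        Set.mem_singleton_iff] at hx
      rcases hx with rfl | rfl | rfl | rfl | rfl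
      exacts [⟨IrrCharacter.triv G, IrrCharacter.charDegree_triv⟩, h1 _ ha, h1 _ hb, h1 _ hc, h1 _ hd]
    rw [← Nat.card_coe_set_eq, hcd, Finset.card_insert_of_notMem (by simp; omega),
      Finset.card_insert_of_notMem (by simp; omega), Finset.card_insert_of_notMem (by simp; omega),
      Finset.card_pair (by omega)] at h8
    omega
  simpa only [derivedSeries_succ, derivedSeries_zero] using h2

end Cfsg.Agent.S4783
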