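import Cfsg.Statements.S4811
import Cfsg.Agent.CT.DegGraph

set_option autoImplicit false
open Cfsg

namespace Cfsg.Agent.S4811


/-- For every finite solvable group G the character degree graph of G (vertices: the primes dividing some irreducible complex character degree; edges: distinct primes whose product divides some degree) has at most two connected components. -/
theorem result {G : Type*} [Group G] [Finite G] [Group.IsSolvable G] : Nat.card ((Cfsg.degreeGraph G).induce (Cfsg.degreePrimes G)).ConnectedComponent ≤ 2 := by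
  have hreach : ∀ (a b : degreePrimes G) (χ : IrrCharacter G), a.1 ∣ charDegree χ.1 →
      b.1 ∣ charDegree χ.1 → ((degreeGraph G).induce (degreePrimes G)).Reachable a b := by
    intro a b χ ha hb
    by_cases hab : a = b
    · rw [hab]
    · have h1 : a.1 ≠ b.1 := fun h => hab (Subtype.ext h)
      exact SimpleGraph.Adj.reachable ⟨h1, a.2.1, b.2.1, _, ⟨χ, rfl⟩,
        ((Nat.coprime_primes a.2.1 b.2.1).2 h1).mul_dvd_of_dvd_of_dvd ha hb⟩
  by_cases hna : commutator G = ⊥
  · refine card_connectedComponent_le_two _ (fun _ => False) (fun _ _ h => h.elim)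
      fun a _ _ _ => ?_
    obtain ⟨hp, d, ⟨χ, rfl⟩, h⟩ := a.2
    rw [χ.charDegree_eq_one_iff_commutator_le.2 (hna ▸ bot_le)] at h
    exact absurd (Nat.dvd_one.1 h) hp.one_lt.ne'
  obtain ⟨r, f, hr, hf, ⟨ξ, hξ⟩, -, h⟩ := exists_degree_dichotomy inferInstance hna
  obtain ⟨q, hq, hqf⟩ := Nat.exists_prime_and_dvd hf.ne'
  let q' : degreePrimes G := ⟨q, hq, _, ⟨ξ, hξ⟩, hqf⟩
  refine card_connectedComponent_le_two _
    (fun a => ((degreeGraph G).induce (degreePrimes G)).Reachable a q')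
    (fun a b ha hb => ha.trans hb.symm) fun a b ha hb => ?_
  have key : ∀ a : degreePrimes G, ¬ ((degreeGraph G).induce (degreePrimes G)).Reachable a q' →
      ∃ χ : IrrCharacter G, a.1 ∣ charDegree χ.1 ∧ r ∣ charDegree χ.1 := by
    intro a ha
    obtain ⟨hp, d, ⟨χ, rfl⟩, h1⟩ := a.2
    obtain ⟨e, d, h2, h3, h4⟩ := h χ
    refine ⟨χ, h1, ?_⟩
    rw [h2] at h1 ⊢
    rcases (Nat.Prime.dvd_mul hp).1 h1 with h5 | h5
    · exact absurd (hreach a q' ξ (hξ ▸ h5.trans h3) (hξ ▸ hqf)) ha
    · rcases h4 with ⟨ξ', h6⟩ | h6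
      · exact absurd (hreach a q' ξ' (h6 ▸ h5.mul_left _) (h6 ▸ hqf.mul_right _)) ha
      · exact h6.mul_left _
  obtain ⟨χ, h1, h2⟩ := key a ha
  obtain ⟨ψ, h3, h4⟩ := key b hb
  let r' : degreePrimes G := ⟨r, hr, _, ⟨χ, rfl⟩, h2⟩
  exact (hreach a r' χ h1 h2).trans (hreach r' b ψ h4 h3)

end Cfsg.Agent.S4811
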