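import Cfsg.Statements.S4881
import Cfsg.Agent.R3.Final

set_option autoImplicit false
open Cfsg

namespace Cfsg.Agent.S4881

/-- Let p be a prime and G a finite p-solvable group with exactly three conjugacy classes of p-elements (counting the identity). Then twice the number of conjugacy classes of p-regular elements of G is at least p − 1, with equality if and only if p is odd, G has order p(p − 1)/2 and G embeds in the one-dimensional affine group over the field with p elements (so G is that group's subgroup of index 2: cyclic of order p extended by cyclic of order (p − 1)/2). -/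
theorem result {G : Type*} [Group G] [Finite G] (p : ℕ) [Fact p.Prime] (hsolv : Cfsg.IsPSolvable p G) (h3 : Nat.card {c : ConjClasses G // ∃ g : G, ConjClasses.mk g = c ∧ ∃ k : ℕ, orderOf g = p ^ k} = 3) : p - 1 ≤ 2 * Nat.card {c : ConjClasses G // ∃ g : G, ConjClasses.mk g = c ∧ ¬ p ∣ orderOf g} ∧ (2 * Nat.card {c : ConjClasses G // ∃ g : G, ConjClasses.mk g = c ∧ ¬ p ∣ orderOf g} = p - 1 ↔ (p ≠ 2 ∧ 2 * Nat.card G = p * (p - 1) ∧ ∃ f : G →* ↥(Cfsg.affineGroup (ZMod p)), Function.Injective f)) := by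
  classical
  have h1 : p ∣ Nat.card G := by
    by_contra h
    have : Subsingleton {c : ConjClasses G // ∃ g : G, ConjClasses.mk g = c ∧
        ∃ k : ℕ, orderOf g = p ^ k} := ⟨fun a b => by
      have h1 : ∀ c : {c : ConjClasses G // ∃ g : G, ConjClasses.mk g = c ∧
          ∃ k : ℕ, orderOf g = p ^ k}, c.1 = ConjClasses.mk 1 := by
        rintro ⟨_, g, rfl, _ | k, hk⟩
        · exact congrArg ConjClasses.mk (orderOf_eq_one_iff.1 hk)
        · exact absurd ((dvd_pow_self p k.succ_ne_zero).trans (hk ▸ orderOf_dvd_natCard g)) h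
      exact Subtype.ext ((h1 a).trans (h1 b).symm)⟩
    have := Finite.card_le_one_iff_subsingleton.2 this
    omega
  have h2 : R3.Three p G := fun x y z hx hy hz hx' hy' hz' => by
    by_contra! h
    have := Fintype.ofFinite {c : ConjClasses G // ∃ g : G, ConjClasses.mk g = c ∧
      ∃ k : ℕ, orderOf g = p ^ k}
    have h4 := Finset.card_le_univ ({⟨_, 1, rfl, 0, by simp⟩, ⟨_, x, rfl, hx'⟩, ⟨_, y, rfl, hy'⟩,
      ⟨_, z, rfl, hz'⟩} : Finset {c : ConjClasses G // ∃ g : G, ConjClasses.mk g = c ∧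
        ∃ k : ℕ, orderOf g = p ^ k})
    rw [← Nat.card_eq_fintype_card, h3, Finset.card_insert_of_notMem (by
      simp [ConjClasses.mk_eq_mk_iff_isConj, hx.symm, hy.symm, hz.symm]), Finset.card_eq_three.2 ⟨_, _, _, by
      simpa only [ne_eq, Subtype.mk.injEq, ConjClasses.mk_eq_mk_iff_isConj] using h.1, by
      simpa only [ne_eq, Subtype.mk.injEq, ConjClasses.mk_eq_mk_iff_isConj] using h.2.1, by
      simpa only [ne_eq, Subtype.mk.injEq, ConjClasses.mk_eq_mk_iff_isConj] using h.2.2, rfl⟩] at h4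
    omega
  have h4 := R3.core hsolv h1 h2
  have h5 := (Fact.out : p.Prime).two_le
  change _ ≤ 2 * Nat.card (Pass.RC p G) ∧ (2 * Nat.card (Pass.RC p G) = _ ↔ _)
  have h6 : p - 1 ≤ 2 * Nat.card (Pass.RC p G) := by
    by_contra h
    have := (h4 (by omega)).1
    omega
  refine ⟨h6, fun h => ⟨by omega, (h4 (by omega)).2⟩, fun ⟨_, h, _⟩ => le_antisymm ?_ h6⟩
  obtain ⟨H, hH, k, hk⟩ := hsolv.exists_hall_pPrime
  have h7 := (Pass.card_rc_le hsolv hH ⟨k, hk⟩).trans
    (Nat.card_le_card_of_surjective _ ConjClasses.mk_surjective)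
  rw [← H.index_mul_card] at h h1
  have h8 := Nat.mul_le_mul_right (Nat.card H) (Nat.le_of_dvd
    (Nat.pos_of_ne_zero H.index_ne_zero_of_finite)
    (((Nat.Prime.dvd_mul Fact.out).1 h1).resolve_right hH))
  refine Nat.le_of_mul_le_mul_left ?_ (show 0 < p by omega)
  nlinarith [Nat.mul_le_mul_left p h7]

end Cfsg.Agent.S4881
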