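import Cfsg.Statements.S4886
import Cfsg.Agent.CT.PQSolv
import Cfsg.Agent.Blk.Fong
import Cfsg.Agent.S4602

set_option autoImplicit false
open Cfsg

namespace Cfsg.Agent.S4886

/-- Let p ≠ q be primes and G a finite group that is p-solvable and q-solvable. Fix maximal ideals of the algebraic integers containing p and q, defining the principal p-block and the principal q-block. Then every irreducible character of degree prime to p in the principal p-block has degree prime to q and every irreducible character of degree prime to q in the principal q-block has degree prime to p, if and only if some Sylow p-subgroup of G commutes elementwise with some Sylow q-subgroup. -/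
theorem result {G : Type*} [Group G] [Finite G] (p q : ℕ) [Fact p.Prime] [Fact q.Prime] (hpq : p ≠ q) (Mp Mq : Ideal Cfsg.AlgInt) (hMp : Cfsg.IsPModular p Mp) (hMq : Cfsg.IsPModular q Mq) (hps : Cfsg.IsPSolvable p G) (hqs : Cfsg.IsPSolvable q G) : ((∀ χ : Cfsg.IrrCharacter G, χ ∈ Cfsg.principalBlock Mp G → ¬ p ∣ Cfsg.charDegree (χ : G → ℂ) → ¬ q ∣ Cfsg.charDegree (χ : G → ℂ)) ∧ (∀ χ : Cfsg.IrrCharacter G, χ ∈ Cfsg.principalBlock Mq G → ¬ q ∣ Cfsg.charDegree (χ : G → ℂ) → ¬ p ∣ Cfsg.charDegree (χ : G → ℂ))) ↔ ∃ (P : Sylow p G) (Q : Sylow q G), ∀ x ∈ (P : Subgroup G), ∀ y ∈ (Q : Subgroup G), x * y = y * x := by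
  constructor
  · rintro ⟨h1, h2⟩
    obtain ⟨h3, h4⟩ := not_dvd_card_pPrimeResidual_of_degrees hpq G hps hqs
      (fun χ h => h1 χ ((hps.mem_principalBlock_iff hMp χ).2 h))
      (fun χ h => h2 χ ((hqs.mem_principalBlock_iff hMq χ).2 h))
    obtain ⟨P⟩ : Nonempty (Sylow p G) := inferInstance
    obtain ⟨Q, hQ⟩ := exists_commuting_sylow_of_residual h3 h4 P
    exact ⟨P, Q, fun x hx y hy => Subgroup.mem_centralizer_iff.1 (hQ hy) x hx⟩
  · rintro ⟨P, Q, h⟩
    have h1 : (P : Subgroup G) ≤ Subgroup.centralizer ((Q : Subgroup G) : Set G) := fun x hx =>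
      Subgroup.mem_centralizer_iff.2 fun y hy => (h x hx y hy).symm
    have h2 := (Cfsg.Agent.S4602.result p q hpq hps).1
      ⟨P, Q, h1.trans (Subgroup.centralizer_le_normalizer _)⟩
    have h3 := (Cfsg.Agent.S4602.result q p hpq.symm hqs).1
      ⟨Q, P, (Subgroup.le_centralizer_iff.1 h1).trans (Subgroup.centralizer_le_normalizer _)⟩
    exact ⟨fun χ hχ _ hd => h2 (hd.trans (χ.charDegree_dvd_index_charKer.trans
        (Subgroup.index_dvd_of_le ((hps.mem_principalBlock_iff hMp χ).1 hχ)))),
      fun χ hχ _ hd => h3 (hd.trans (χ.charDegree_dvd_index_charKer.trans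
        (Subgroup.index_dvd_of_le ((hqs.mem_principalBlock_iff hMq χ).1 hχ))))⟩

end Cfsg.Agent.S4886
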