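import Cfsg.Statements.S4903
import Cfsg.Agent.Lin.Sixteen

set_option autoImplicit false
open Cfsg

namespace Cfsg.Agent.S4903

/-- Let G be a finite group with a faithful irreducible complex character of degree 16, p a prime with p ≥ 19, and P a Sylow p-subgroup of G. Then P is normal in G, or p = 31 and the quotient of G by its centre is isomorphic to PSL(2,31). -/
theorem result {G : Type*} [Group G] [Finite G] (χ : Cfsg.IrrCharacter G) (hdeg : Cfsg.charDegree (χ : G → ℂ) = 16) (hfaith : ∀ g : G, (χ : G → ℂ) g = (χ : G → ℂ) 1 → g = 1) (p : ℕ) [Fact p.Prime] (hp : 19 ≤ p) (P : Sylow p G) : (P : Subgroup G).Normal ∨ (p = 31 ∧ Nonempty (G ⧸ Subgroup.center G ≃* Matrix.ProjectiveSpecialLinearGroup (Fin 2) (ZMod 31))) := by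
  by_contra h
  push Not at h
  obtain ⟨hnn, h⟩ := h
  have hp' : p.Prime := Fact.out
  rcases χ.small_reduce hfaith (by omega) hnn with ⟨-, h1⟩ | ⟨hG, Q, ξ, F, hf, h1, h2, h3⟩
  · obtain rfl : p = 33 := by omega
    norm_num at hp'
  have := Fintype.ofFinite (commutator G)
  obtain ⟨t, ht⟩ := F.e_dvd
  rcases F.toAutFrame.feit_small (by omega) F.nn ξ hf (by omega) (t := t) (by rw [ht, mul_comm])
    with ⟨⟨e⟩, h4, -⟩ | ⟨-, h4, -⟩
  · rcases h4 with h4 | h4
    · obtain rfl : p = 31 := by omega
      obtain ⟨e'⟩ := nonempty_quotient_center_equiv hG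
      exact (h rfl).false (e'.trans e)
    · obtain rfl : p = 33 := by omega
      norm_num at hp'
  · have h5 := Nat.mul_le_mul_left F.e h4
    have h6 : F.e = 3 := by
      have h7 : F.e * (F.e + 3) ≤ 15 + F.e := by omega
      have h8 : 3 ≤ F.e := by omega
      nlinarith
    obtain rfl : p = 19 := by omega
    exact QData.not_nineteen ⟨commutator_commutator_eq_top hG, hf, by omega, h3⟩ h6

end Cfsg.Agent.S4903
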